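import Mathlib.FieldTheory.Galois.Basic
import Mathlib.FieldTheory.Normal.Closure
import Mathlib.RingTheory.IntegralDomain
import Mathlib.Data.ZMod.Basic
import Mathlib.Algebra.Field.ZMod
import Mathlib.Tactic

/-!
# Affine Galois actions on the embeddings
-/

set_option autoImplicit false
set_option linter.style.haveILetI false
set_option maxHeartbeats 1000000

universe u

namespace NFFibLib

variable {K L N : Type u} [Field K] [Field L] [Algebra K L] [Field N] [Algebra K N]

theorem affine_cases [FiniteDimensional K N] [IsGalois K N] (p : ℕ) [hp : Fact p.Prime]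
    (e : (L →ₐ[K] N) ≃ ZMod p)
    (haff : ∀ σ : N ≃ₐ[K] N, ∃ a b : ZMod p, a ≠ 0 ∧ ∀ φ : L →ₐ[K] N, e (σ.toAlgHom.comp φ) = a * e φ + b)
    (hgen : ∀ τ : N ≃ₐ[K] N, (∀ φ : L →ₐ[K] N, τ.toAlgHom.comp φ = φ) → τ = 1)
    (hnab : IsGalois K L → ∃ σ τ : L ≃ₐ[K] L, σ * τ ≠ τ * σ) :
    ∃ E : IntermediateField K N, IsGalois K E ∧ IsCyclic (E ≃ₐ[K] E) ∧ 1 < Module.finrank K E ∧
      ∀ σ : N ≃ₐ[K] N, (∀ x ∈ E, σ x = x) ∨ ∃ φ : L →ₐ[K] N, ∀ x, σ (φ x) = φ x := by
  classical
  choose A B hA hAB using haff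
  have hact : ∀ (σ τ : N ≃ₐ[K] N) (φ : L →ₐ[K] N),
      e ((σ * τ).toAlgHom.comp φ) = A σ * (A τ * e φ + B τ) + B σ := by
    intro σ τ φ
    rw [← hAB τ φ, ← hAB σ]
    rfl
  have hBmul : ∀ σ τ, B (σ * τ) = A σ * B τ + B σ := fun σ τ => by
    have h := hact σ τ (e.symm 0)
    rw [hAB, Equiv.apply_symm_apply] at h
    simpa using h
  have hmul : ∀ σ τ, A (σ * τ) = A σ * A τ := fun σ τ => by
    have h := hact σ τ (e.symm 1)
    rw [hAB, Equiv.apply_symm_apply, hBmul] at h
    linear_combination h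
  have hone : A 1 = 1 := by
    have h := hmul 1 1
    rw [mul_one] at h
    exact (mul_eq_left₀ (hA 1)).mp h.symm
  let χ : (N ≃ₐ[K] N) →* (ZMod p)ˣ :=
    { toFun := fun σ => Units.mk0 (A σ) (hA σ)
      map_one' := Units.ext hone
      map_mul' := fun σ τ => Units.ext (hmul σ τ) }
  have hfixed : ∀ σ, A σ ≠ 1 → ∃ φ : L →ₐ[K] N, ∀ x, σ (φ x) = φ x := fun σ hσ => by
    refine ⟨e.symm (B σ / (1 - A σ)), fun x => ?_⟩
    have h1 : (1 : ZMod p) - A σ ≠ 0 := sub_ne_zero.mpr (Ne.symm hσ)
    have h : σ.toAlgHom.comp (e.symm (B σ / (1 - A σ))) = e.symm (B σ / (1 - A σ)) := e.injective (by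
      rw [hAB, Equiv.apply_symm_apply]
      have hc := div_mul_cancel₀ (B σ) h1
      linear_combination (-1 : ZMod p) * hc)
    exact DFunLike.congr_fun h x
  let E := IntermediateField.fixedField χ.ker
  have hgalE : IsGalois K E := IsGalois.of_fixedField_normal_subgroup χ.ker
  let eq := IsGalois.normalAutEquivQuotient χ.ker
  have hne : χ.ker ≠ ⊤ := by
    intro htop
    have h1 : ∀ σ, A σ = 1 := fun σ => by
      have hm : σ ∈ χ.ker := htop ▸ Subgroup.mem_top σ
      exact congrArg Units.val (MonoidHom.mem_ker.mp hm)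
    have hcomm : ∀ σ τ : N ≃ₐ[K] N, σ * τ = τ * σ := fun σ τ => by
      have h := hgen ((τ * σ)⁻¹ * (σ * τ)) fun φ => e.injective (by
        have hinv : B ((τ * σ)⁻¹) + B (τ * σ) = 0 := by
          have h' := hBmul (τ * σ)⁻¹ (τ * σ)
          rw [inv_mul_cancel, h1] at h'
          have h0 : B 1 = 0 := by
            have h'' := hBmul 1 1
            rw [mul_one, h1] at h''
            linear_combination (-1 : ZMod p) * h''
          rw [h0] at h'
          linear_combination (-1 : ZMod p) * h'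
        rw [hact, h1, h1, hBmul σ τ, h1]
        rw [hBmul τ σ, h1] at hinv
        linear_combination hinv)
      rw [inv_mul_eq_one] at h
      exact h.symm
    let φ₀ := e.symm 0
    have htriv : φ₀.fieldRange.fixingSubgroup = ⊥ := by
      rw [Subgroup.eq_bot_iff_forall]
      intro σ hσ
      refine hgen σ fun φ => e.injective ?_
      have h0 : σ.toAlgHom.comp φ₀ = φ₀ := AlgHom.ext fun x =>
        (IntermediateField.mem_fixingSubgroup_iff _ σ).mp hσ _ ⟨x, rfl⟩
      have hb : B σ = 0 := by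
        have h' := hAB σ φ₀
        rw [h0] at h'
        simpa [φ₀] using h'.symm
      rw [hAB, h1, hb, one_mul, add_zero]
    have htop' : φ₀.fieldRange = ⊤ := by
      rw [← IsGalois.fixedField_fixingSubgroup φ₀.fieldRange, htriv, IntermediateField.fixedField_bot]
    have hbij : Function.Bijective φ₀ := ⟨φ₀.injective, fun y => by
      have hy : y ∈ φ₀.fieldRange := htop' ▸ IntermediateField.mem_top
      exact hy⟩
    let f : L ≃ₐ[K] N := AlgEquiv.ofBijective φ₀ hbij
    haveI : IsGalois K L := IsGalois.of_algEquiv f.symm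
    obtain ⟨σ, τ, hστ⟩ := hnab inferInstance
    exact hστ ((AlgEquiv.autCongr f).injective (by rw [map_mul, map_mul, hcomm]))
  refine ⟨E, hgalE, ?_, ?_, fun σ => ?_⟩
  · haveI : IsCyclic ((N ≃ₐ[K] N) ⧸ χ.ker) := by
      haveI : IsCyclic χ.range := inferInstance
      exact isCyclic_of_injective (QuotientGroup.quotientKerEquivRange χ).toMonoidHom
        (QuotientGroup.quotientKerEquivRange χ).injective
    exact isCyclic_of_injective eq.symm.toMonoidHom eq.symm.injective
  · rw [← IsGalois.card_aut_eq_finrank, ← Nat.card_congr eq.toEquiv, ← Subgroup.index_eq_card]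
    have h0 : χ.ker.index ≠ 0 := Subgroup.index_ne_zero_of_finite
    have h1 : χ.ker.index ≠ 1 := fun h => hne (Subgroup.index_eq_one.mp h)
    omega
  · by_cases h : A σ = 1
    · exact Or.inl fun x hx => hx ⟨σ, MonoidHom.mem_ker.mpr (Units.ext h)⟩
    · exact Or.inr (hfixed σ h)

end NFFibLib
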