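import Mathlib.RingTheory.Norm.Basic
import Mathlib.RingTheory.TensorProduct.Free
import Mathlib.LinearAlgebra.StdBasis
import Mathlib.Topology.Algebra.Module.ModuleTopology
import Mathlib.Topology.Instances.Matrix
import Mathlib.RingTheory.AlgebraTower

/-!
# Coordinates of norms of base changed algebras
-/

set_option autoImplicit false
set_option linter.style.haveILetI false
set_option maxHeartbeats 800000

universe u

open scoped TensorProduct

namespace NFFibLib

section

variable {k K L : Type u} [Field k] [Field K] [Field L] [Algebra k K] [Algebra K L] [Algebra k L]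
  [IsScalarTower k K L] {ι κ : Type} [Fintype ι] [DecidableEq ι] [Fintype κ] [DecidableEq κ]
  (bK : Module.Basis κ k K) (bL : Module.Basis ι K L) (F : Type u) [CommRing F] [Algebra k F]

/-- The structure map of the base changed tower. -/
noncomputable abbrev bcAlg : Algebra (F ⊗[k] K) (F ⊗[k] L) :=
  (Algebra.TensorProduct.map (AlgHom.id k F) (IsScalarTower.toAlgHom k K L)).toRingHom.toAlgebra

attribute [local instance] bcAlg

theorem bc_smul (a : F) (y : K) (x : F ⊗[k] L) : (a ⊗ₜ[k] y) • x = (a ⊗ₜ[k] algebraMap K L y) * x := rfl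

instance bcTower : IsScalarTower F (F ⊗[k] K) (F ⊗[k] L) :=
  IsScalarTower.of_algebraMap_eq fun a => by
    show a ⊗ₜ[k] (1 : L) = a ⊗ₜ[k] algebraMap K L 1
    rw [map_one]

/-- The comparison of coordinates. -/
noncomputable def bcCoord : (ι → F ⊗[k] K) →ₗ[F ⊗[k] K] F ⊗[k] L :=
  Fintype.linearCombination (F ⊗[k] K) fun i => (1 : F) ⊗ₜ[k] bL i

include bK in
theorem bijective_bcCoord : Function.Bijective (bcCoord (k := k) bL F) := by
  let bS := Pi.basis fun _ : ι => Algebra.TensorProduct.basis F bK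
  let bT := Algebra.TensorProduct.basis F (bK.smulTower bL)
  let e : (ι → F ⊗[k] K) ≃ₗ[F] F ⊗[k] L :=
    bS.equiv bT ((Equiv.sigmaEquivProd ι κ).trans (Equiv.prodComm ι κ))
  have h : (bcCoord (k := k) bL F).restrictScalars F = e.toLinearMap := bS.ext fun ⟨j, m⟩ => by
    rw [LinearEquiv.coe_toLinearMap, Module.Basis.equiv_apply]
    simp only [bS, bT, bcCoord, LinearMap.coe_restrictScalars, Fintype.linearCombination_apply, Pi.basis_apply,
      Pi.single_apply, ite_smul, zero_smul, Finset.sum_ite_eq', Finset.mem_univ, if_true,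
      Algebra.TensorProduct.basis_apply, bc_smul, Algebra.TensorProduct.tmul_mul_tmul, one_mul,
      Equiv.trans_apply, Equiv.sigmaEquivProd_apply, Equiv.prodComm_apply, Prod.swap_prod_mk,
      Module.Basis.smulTower_apply]
    rw [← Algebra.smul_def]
  have h' : ⇑(bcCoord (k := k) bL F) = ⇑e := congrArg (fun f : _ →ₗ[F] _ => ⇑f) h
  rw [h']
  exact e.bijective

/-- The basis of the base change. -/
noncomputable def bcBasis : Module.Basis ι (F ⊗[k] K) (F ⊗[k] L) :=
  .ofEquivFun (LinearEquiv.ofBijective (bcCoord (k := k) bL F) (bijective_bcCoord bK bL F)).symm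

theorem bcBasis_apply (i : ι) : bcBasis bK bL F i = (1 : F) ⊗ₜ[k] bL i := by
  rw [bcBasis, Module.Basis.coe_ofEquivFun, LinearEquiv.symm_symm]
  show bcCoord (k := k) bL F (Pi.single i 1) = _
  rw [bcCoord, Fintype.linearCombination_apply_single, one_smul]

theorem bcBasis_repr_one_tmul (x : L) (i : ι) :
    (bcBasis bK bL F).repr ((1 : F) ⊗ₜ[k] x) i = (1 : F) ⊗ₜ[k] bL.repr x i := by
  have h : (1 : F) ⊗ₜ[k] x = ∑ j, ((1 : F) ⊗ₜ[k] bL.repr x j) • bcBasis bK bL F j := by
    conv_lhs => rw [← bL.sum_repr x, TensorProduct.tmul_sum]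
    refine Finset.sum_congr rfl fun j _ => ?_
    rw [bcBasis_apply, bc_smul, Algebra.TensorProduct.tmul_mul_tmul, one_mul, Algebra.smul_def]
  rw [h, Module.Basis.repr_sum_self]

/-- The norm form in coordinates. -/
noncomputable def bcNm (c : ι → F ⊗[k] K) : F ⊗[k] K :=
  (∑ i, c i • (Algebra.leftMulMatrix bL (bL i)).map
    (Algebra.TensorProduct.includeRight : K →ₐ[k] F ⊗[k] K)).det

include bK in
theorem bcNm_eq_norm (c : ι → F ⊗[k] K) :
    bcNm (k := k) bL F c = Algebra.norm (F ⊗[k] K) (bcCoord (k := k) bL F c) := by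
  rw [Algebra.norm_eq_matrix_det (bcBasis bK bL F), bcCoord, Fintype.linearCombination_apply, map_sum, bcNm]
  congr 1
  refine Finset.sum_congr rfl fun i _ => ?_
  rw [map_smul]
  congr 1
  ext r s
  rw [Algebra.leftMulMatrix_eq_repr_mul, bcBasis_apply, Algebra.TensorProduct.tmul_mul_tmul, one_mul,
    bcBasis_repr_one_tmul, Matrix.map_apply, Algebra.leftMulMatrix_eq_repr_mul,
    Algebra.TensorProduct.includeRight_apply]

theorem bcNm_include (d : ι → K) :
    bcNm (k := k) bL F (fun i => (1 : F) ⊗ₜ[k] d i) = (1 : F) ⊗ₜ[k] Algebra.norm K (∑ i, d i • bL i) := by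
  rw [Algebra.norm_eq_matrix_det bL, ← Algebra.TensorProduct.includeRight_apply, ← AlgHom.coe_toRingHom,
    RingHom.map_det, bcNm, map_sum]
  congr 1
  ext r s
  simp only [RingHom.mapMatrix_apply, Matrix.map_apply, Matrix.sum_apply, map_smul, Matrix.smul_apply, smul_eq_mul,
    map_sum, map_mul, AlgHom.coe_toRingHom, Algebra.TensorProduct.includeRight_apply]

include bK bL in
theorem norm_one_tmul (z : L) :
    Algebra.norm (F ⊗[k] K) ((1 : F) ⊗ₜ[k] z) = (1 : F) ⊗ₜ[k] Algebra.norm K z := by
  have h := bcNm_include (k := k) bL F (fun i => bL.repr z i)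
  rw [bL.sum_repr, bcNm_eq_norm bK] at h
  rw [← h]
  congr 1
  rw [bcCoord, Fintype.linearCombination_apply]
  conv_lhs => rw [← bL.sum_repr z, TensorProduct.tmul_sum]
  refine Finset.sum_congr rfl fun j _ => ?_
  rw [bc_smul, Algebra.TensorProduct.tmul_mul_tmul, one_mul, Algebra.smul_def]

variable [TopologicalSpace F] [IsTopologicalRing F]

/-- Global elements near a local norm. -/
theorem exists_open_coords (V : Set (κ → F)) (hV : IsOpen V) (x : F ⊗[k] L)
    (hx : ⇑((Algebra.TensorProduct.basis F bK).repr (Algebra.norm (F ⊗[k] K) x)) ∈ V) :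
    ∃ O : Set (ι × κ → F), IsOpen O ∧ O.Nonempty ∧ ∀ z : ι × κ → k, (fun p => algebraMap k F (z p)) ∈ O →
      (fun m => algebraMap k F (bK.repr (Algebra.norm K (∑ i, (∑ m, z (i, m) • bK m) • bL i)) m)) ∈ V := by
  letI : TopologicalSpace (F ⊗[k] K) := moduleTopology F _
  haveI : IsModuleTopology F (F ⊗[k] K) := ⟨rfl⟩
  haveI : Module.Finite F (F ⊗[k] K) := Module.Finite.of_basis (Algebra.TensorProduct.basis F bK)
  haveI : IsTopologicalRing (F ⊗[k] K) := IsModuleTopology.isTopologicalRing F _
  haveI : ContinuousSMul F (F ⊗[k] K) := IsModuleTopology.toContinuousSMul F _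
  let β := Algebra.TensorProduct.basis F bK
  let g : (ι × κ → F) → (ι → F ⊗[k] K) := fun c i => ∑ m, c (i, m) • β m
  have hg : Continuous g := continuous_pi fun i =>
    continuous_finsetSum _ fun m _ => (continuous_apply (i, m)).smul continuous_const
  have hnm : Continuous (bcNm (k := k) bL F) := by
    unfold bcNm
    exact Continuous.matrix_det (continuous_finsetSum _ fun i _ => (continuous_apply i).smul continuous_const)
  have hco : Continuous fun y : F ⊗[k] K => (β.equivFun y : κ → F) :=
    IsModuleTopology.continuous_of_linearMap β.equivFun.toLinearMap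
  refine ⟨(fun c => β.equivFun (bcNm (k := k) bL F (g c))) ⁻¹' V, hV.preimage (hco.comp (hnm.comp hg)), ?_, fun z hz => ?_⟩
  · obtain ⟨c, rfl⟩ := (bijective_bcCoord bK bL F).2 x
    refine ⟨fun p => β.repr (c p.1) p.2, ?_⟩
    rw [Set.mem_preimage, show g (fun p => β.repr (c p.1) p.2) = c from funext fun i => β.sum_repr (c i),
      bcNm_eq_norm bK]
    exact hx
  · rw [Set.mem_preimage] at hz
    have e : g (fun p => algebraMap k F (z p)) = fun i => (1 : F) ⊗ₜ[k] ∑ m, z (i, m) • bK m := funext fun i => by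
      simp only [g, β, Algebra.TensorProduct.basis_apply, algebraMap_smul, TensorProduct.tmul_sum,
        TensorProduct.tmul_smul]
    rw [e, bcNm_include] at hz
    convert hz using 1
    funext m
    simp [β, Algebra.TensorProduct.basis_repr_tmul, Algebra.smul_def]

end

end NFFibLib
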