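import Groth.Agent.NFFibLib.Hensel
import Mathlib.NumberTheory.RamificationInertia.Valuation
import Mathlib.NumberTheory.NumberField.InfinitePlace.Ramification
import Mathlib.RingTheory.Trace.Basic
import Mathlib.LinearAlgebra.BilinearForm.Properties

/-!
# Places over a place, and bounds on coordinates
-/

set_option autoImplicit false
set_option linter.style.haveILetI false
set_option linter.unusedSectionVars false

universe u

open NumberField IsDedekindDomain WithZero Module

namespace NFFibLib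

variable {k K : Type u} [Field k] [NumberField k] [Field K] [NumberField K] [Algebra k K]

theorem exists_under (W : HeightOneSpectrum (𝓞 K)) :
    ∃ v : HeightOneSpectrum (𝓞 k), W.asIdeal.LiesOver v.asIdeal :=
  ⟨⟨W.asIdeal.under (𝓞 k), Ideal.IsPrime.under _ _, mt Ideal.eq_bot_of_comap_eq_bot W.ne_bot⟩, ⟨rfl⟩⟩

theorem under_unique {W : HeightOneSpectrum (𝓞 K)} {v v' : HeightOneSpectrum (𝓞 k)}
    (h : W.asIdeal.LiesOver v.asIdeal) (h' : W.asIdeal.LiesOver v'.asIdeal) : v = v' :=
  HeightOneSpectrum.ext (h.over.trans h'.over.symm)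

theorem exists_over (v : HeightOneSpectrum (𝓞 k)) :
    ∃ W : HeightOneSpectrum (𝓞 K), W.asIdeal.LiesOver v.asIdeal := by
  haveI := v.isMaximal
  obtain ⟨Q, hQ, hQo⟩ := Ideal.exists_maximal_ideal_liesOver_of_isIntegral (S := 𝓞 K) v.asIdeal
  exact ⟨⟨Q, hQ.isPrime, Ideal.ne_bot_of_liesOver_of_ne_bot v.ne_bot Q⟩, hQo⟩

theorem finite_over (Sf : Finset (HeightOneSpectrum (𝓞 k))) :
    {W : HeightOneSpectrum (𝓞 K) | ∃ v ∈ Sf, W.asIdeal.LiesOver v.asIdeal}.Finite := by
  have h : ∀ v : HeightOneSpectrum (𝓞 k), ∃ r : 𝓞 k, r ∈ v.asIdeal ∧ r ≠ 0 := fun v =>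
    Submodule.exists_mem_ne_zero_of_ne_bot v.ne_bot
  choose r hr hr0 using h
  refine (Set.Finite.biUnion (s := (↑Sf : Set _)) Sf.finite_toSet (t := fun v => {W : HeightOneSpectrum (𝓞 K) |
    algebraMap (𝓞 k) (𝓞 K) (r v) ∈ W.asIdeal}) fun v _ => ?_).subset ?_
  · exact SApproxLib.finite_setOf_mem _ ((map_ne_zero_iff _ (FaithfulSMul.algebraMap_injective _ _)).mpr (hr0 v))
  · rintro W ⟨v, hv, hW⟩
    refine Set.mem_biUnion hv ?_
    have := hr v
    rw [hW.over] at this
    exact this

theorem valuation_over_eq (v : HeightOneSpectrum (𝓞 k)) (W : HeightOneSpectrum (𝓞 K)) [W.asIdeal.LiesOver v.asIdeal]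
    (x : k) : ∃ e : ℕ, e ≠ 0 ∧ W.valuation K (algebraMap k K x) = v.valuation k x ^ e :=
  ⟨_, Ideal.IsDedekindDomain.ramificationIdx'_ne_zero_of_liesOver W.asIdeal v.ne_bot,
    (HeightOneSpectrum.valuation_liesOver K v W x).symm⟩

theorem over_le_one_iff (v : HeightOneSpectrum (𝓞 k)) (W : HeightOneSpectrum (𝓞 K)) [W.asIdeal.LiesOver v.asIdeal]
    (x : k) : W.valuation K (algebraMap k K x) ≤ 1 ↔ v.valuation k x ≤ 1 := by
  obtain ⟨e, he, h⟩ := valuation_over_eq v W x
  rw [h, pow_le_one_iff he]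

theorem over_lt_one_iff (v : HeightOneSpectrum (𝓞 k)) (W : HeightOneSpectrum (𝓞 K)) [W.asIdeal.LiesOver v.asIdeal]
    (x : k) : W.valuation K (algebraMap k K x) < 1 ↔ v.valuation k x < 1 := by
  obtain ⟨e, he, h⟩ := valuation_over_eq v W x
  rw [h, pow_lt_one_iff he]

theorem over_eq_one_iff (v : HeightOneSpectrum (𝓞 k)) (W : HeightOneSpectrum (𝓞 K)) [W.asIdeal.LiesOver v.asIdeal]
    (x : k) : W.valuation K (algebraMap k K x) = 1 ↔ v.valuation k x = 1 := by
  obtain ⟨e, he, h⟩ := valuation_over_eq v W x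
  rw [h, pow_eq_one_iff, or_iff_left he]

theorem valuation_trace_le_one (v : HeightOneSpectrum (𝓞 k)) {x : K}
    (h : ∀ W : HeightOneSpectrum (𝓞 K), W.asIdeal.LiesOver v.asIdeal → W.valuation K x ≤ 1) :
    v.valuation k (Algebra.trace k K x) ≤ 1 := by
  classical
  let P := (SApproxLib.finite_setOf_one_lt_valuation x).toFinset
  choose u hu using fun W : HeightOneSpectrum (𝓞 K) => exists_under (k := k) W
  have hN : ∀ W : HeightOneSpectrum (𝓞 K), ∃ N : ℕ, exp (-(N : ℤ)) * W.valuation K x ≤ 1 := fun W => by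
    rcases eq_or_ne (W.valuation K x) 0 with h0 | h0
    · exact ⟨0, by rw [h0, mul_zero]; exact zero_le⟩
    · refine ⟨(log (W.valuation K x)).toNat, ?_⟩
      nth_rw 2 [← exp_log h0]
      rw [← exp_add, ← exp_zero, exp_le_exp]
      omega
  choose N hN using hN
  let E : Finset (HeightOneSpectrum (𝓞 k)) := insert v (P.image u)
  obtain ⟨s, hs1, hs2⟩ := SApproxLib.exists_global_approx E (fun v' => if v' = v then 1 else 0)
    (fun v' => if v' = v then 1 else P.sup N)
  have hsv : v.valuation k s = 1 := by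
    have h1 := hs2 v (Finset.mem_insert_self _ _)
    simp only [if_true] at h1
    have h2 : v.valuation k (s - 1) < v.valuation k (1 : k) := by
      rw [map_one]
      exact h1.trans_lt ((exp_lt_exp.mpr (by norm_num)).trans_eq exp_zero)
    rw [← sub_add_cancel s 1, Valuation.map_add_eq_of_lt_right _ h2, map_one]
  have hsint : ∀ v' : HeightOneSpectrum (𝓞 k), v'.valuation k s ≤ 1 := fun v' => by
    by_cases h1 : v' ∈ E
    · by_cases h2 : v' = v
      · rw [h2, hsv]
      · have h3 := hs2 v' h1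
        simp only [h2, if_false, sub_zero] at h3
        exact h3.trans ((exp_le_exp.mpr (by omega)).trans_eq exp_zero)
    · exact hs1 v' h1
  have hint : ∀ W : HeightOneSpectrum (𝓞 K), W.valuation K (algebraMap k K s * x) ≤ 1 := by
    intro W
    haveI := hu W
    rw [map_mul]
    by_cases hW : W ∈ P
    · by_cases h2 : u W = v
      · exact mul_le_one₀ ((over_le_one_iff (u W) W s).mpr (hsint _)) zero_le (h W (h2 ▸ hu W))
      · have h3 := hs2 (u W) (Finset.mem_insert_of_mem (Finset.mem_image_of_mem u hW))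
        simp only [h2, if_false, sub_zero] at h3
        obtain ⟨e, he, hWe⟩ := valuation_over_eq (u W) W s
        rw [hWe]
        refine le_trans (mul_le_mul' ?_ le_rfl) (hN W)
        refine ((pow_le_of_le_one zero_le (hsint _) he).trans h3).trans (exp_le_exp.mpr ?_)
        have := Finset.le_sup (f := N) hW
        omega
    · refine mul_le_one₀ ((over_le_one_iff (u W) W s).mpr (hsint _)) zero_le ?_
      exact not_lt.mp fun hlt => hW ((Set.Finite.mem_toFinset _).mpr hlt)
  obtain ⟨r, hr⟩ := HeightOneSpectrum.mem_integers_of_valuation_le_one K _ hint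
  have htr : IsIntegral ℤ (Algebra.trace k K (algebraMap k K s * x)) :=
    Algebra.isIntegral_trace (hr ▸ RingOfIntegers.isIntegral_coe r)
  have h1 : v.valuation k (Algebra.trace k K (algebraMap k K s * x)) ≤ 1 :=
    v.valuation_le_one (K := k) (⟨_, htr⟩ : 𝓞 k)
  rwa [← Algebra.smul_def, map_smul, smul_eq_mul, map_mul, hsv, one_mul] at h1

theorem valuation_trace_le (v : HeightOneSpectrum (𝓞 k)) {x : K} {q : k} (hq : q ≠ 0)
    (h : ∀ W : HeightOneSpectrum (𝓞 K), W.asIdeal.LiesOver v.asIdeal →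
      W.valuation K x ≤ W.valuation K (algebraMap k K q)) :
    v.valuation k (Algebra.trace k K x) ≤ v.valuation k q := by
  have hq' : algebraMap k K q ≠ 0 := (map_ne_zero _).mpr hq
  have h1 := valuation_trace_le_one v (x := algebraMap k K q⁻¹ * x) fun W hW => by
    rw [map_mul, map_inv₀, map_inv₀, inv_mul_le_one₀ (zero_lt_iff.mpr ((Valuation.ne_zero_iff _).mpr hq'))]
    exact h W hW
  rwa [← Algebra.smul_def, map_smul, smul_eq_mul, map_mul, map_inv₀,
    inv_mul_le_one₀ (zero_lt_iff.mpr ((Valuation.ne_zero_iff _).mpr hq))] at h1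

variable {κ : Type} [Fintype κ] [DecidableEq κ]

theorem exists_trace_repr (bK : Module.Basis κ k K) :
    ∃ d : κ → K, ∀ x j, bK.repr x j = Algebra.trace k K (x * d j) := by
  let B := Algebra.traceForm k K
  have hB : B.Nondegenerate := traceForm_nondegenerate k K
  refine ⟨fun j => LinearMap.BilinForm.dualBasis B hB bK j, fun x j => ?_⟩
  have h : ∀ i, Algebra.trace k K (bK i * LinearMap.BilinForm.dualBasis B hB bK j) = if i = j then 1 else 0 := by
    intro i
    rw [mul_comm, ← Algebra.traceForm_apply]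
    exact LinearMap.BilinForm.apply_dualBasis_left _ _ _ _
  have e : x * LinearMap.BilinForm.dualBasis B hB bK j =
      (∑ i, bK.repr x i • bK i) * LinearMap.BilinForm.dualBasis B hB bK j := by rw [bK.sum_repr]
  rw [e, Finset.sum_mul, map_sum]
  simp only [smul_mul_assoc, map_smul, h, smul_eq_mul]
  simp

/-- Elements near `u₀` at all places over `v` have coordinates near those of `u₀`. -/
theorem exists_coord_bound (bK : Module.Basis κ k K) (v : HeightOneSpectrum (𝓞 k)) {V : Set (κ → v.adicCompletion k)}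
    (hV : IsOpen V) {u₀ : K} (hu₀ : (fun j => algebraMap k (v.adicCompletion k) (bK.repr u₀ j)) ∈ V) :
    ∃ N : ℕ, ∀ u : K, (∀ W : HeightOneSpectrum (𝓞 K), W.asIdeal.LiesOver v.asIdeal →
      W.valuation K (u - u₀) ≤ exp (-(N : ℤ))) → (fun j => algebraMap k (v.adicCompletion k) (bK.repr u j)) ∈ V := by
  classical
  obtain ⟨U, hU, hUV⟩ := isOpen_pi_iff'.mp hV _ hu₀
  choose M hM using fun j => SApproxLib.exists_ball_subset v (hU j).1 (bK.repr u₀ j) (hU j).2
  obtain ⟨d, hd⟩ := exists_trace_repr bK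
  obtain ⟨π, hπ⟩ := v.valuation_exists_uniformizer k
  have hπ0 : π ≠ 0 := fun h => exp_ne_zero (a := (-1 : ℤ)) (by rw [← hπ, h, map_zero])
  let q : k := π ^ Finset.univ.sup M
  have hq : q ≠ 0 := pow_ne_zero _ hπ0
  have hfin := finite_over (K := K) ({v} : Finset (HeightOneSpectrum (𝓞 k)))
  have hb : ∀ W : HeightOneSpectrum (𝓞 K), ∀ j, ∃ N : ℕ,
      exp (-(N : ℤ)) * W.valuation K (d j) ≤ W.valuation K (algebraMap k K q) := by
    intro W j
    have hne : W.valuation K (algebraMap k K q) ≠ 0 := (Valuation.ne_zero_iff _).mpr ((map_ne_zero _).mpr hq)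
    rcases eq_or_ne (W.valuation K (d j)) 0 with h0 | h0
    · exact ⟨0, by rw [h0, mul_zero]; exact zero_le⟩
    · refine ⟨(log (W.valuation K (d j)) - log (W.valuation K (algebraMap k K q))).toNat, ?_⟩
      nth_rw 2 [← exp_log h0]
      rw [← exp_add, ← le_log_iff_exp_le hne] at *
      omega
  choose N hN using hb
  refine ⟨hfin.toFinset.sup fun W => Finset.univ.sup (N W), fun u hu => hUV fun j _ => hM j _ ?_⟩
  have h1 : v.valuation k (bK.repr u j - bK.repr u₀ j) ≤ v.valuation k q := by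
    rw [← Finsupp.sub_apply, ← map_sub, hd]
    refine valuation_trace_le v hq fun W hW => ?_
    rw [map_mul]
    refine le_trans (mul_le_mul' ((hu W hW).trans (exp_le_exp.mpr ?_)) le_rfl) (hN W j)
    have h2 : N W j ≤ hfin.toFinset.sup fun W => Finset.univ.sup (N W) :=
      le_trans (Finset.le_sup (f := N W) (Finset.mem_univ j))
        (Finset.le_sup (f := fun W => Finset.univ.sup (N W))
          (hfin.mem_toFinset.mpr ⟨v, Finset.mem_singleton_self v, hW⟩))
    omega
  refine h1.trans ?_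
  rw [map_pow, hπ, ← exp_nsmul, exp_le_exp, nsmul_eq_mul]
  have := Finset.le_sup (f := M) (Finset.mem_univ j)
  push_cast
  omega

/-- Elements near `u₀` at all infinite places over `w` have coordinates near those of `u₀`. -/
theorem exists_coord_bound_infinite (bK : Module.Basis κ k K) (w : InfinitePlace k) {V : Set (κ → w.Completion)}
    (hV : IsOpen V) {u₀ : K} (hu₀ : (fun j => algebraMap k w.Completion (bK.repr u₀ j)) ∈ V) :
    ∃ ε : ℝ, 0 < ε ∧ ∀ u : K, (∀ w' : InfinitePlace K, w' (u - u₀) < ε) →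
      (fun j => algebraMap k w.Completion (bK.repr u j)) ∈ V := by
  obtain ⟨δ, hδ, hball⟩ := Metric.isOpen_iff.mp hV _ hu₀
  obtain ⟨d, hd⟩ := exists_trace_repr bK
  let C : ℝ := ∑ j, ∑ w' : InfinitePlace K, w' (d j)
  have hC : 0 ≤ C := Finset.sum_nonneg fun j _ => Finset.sum_nonneg fun w' _ => apply_nonneg w' _
  letI : Algebra k ℂ := w.embedding.toAlgebra
  let n : ℝ := (Fintype.card (K →ₐ[k] ℂ) : ℝ) + 1
  have hn : 0 < n := by positivity
  refine ⟨δ / (n * (C + 1)), by positivity, fun u hu => hball ?_⟩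
  rw [Metric.mem_ball, dist_pi_lt_iff hδ]
  intro j
  rw [dist_eq_norm, ← map_sub, InfinitePlace.Completion.algebraMap_apply, InfinitePlace.Completion.norm_coe,
    ← Finsupp.sub_apply, ← map_sub, hd]
  change w (Algebra.trace k K ((u - u₀) * d j)) < δ
  rw [← InfinitePlace.norm_embedding_eq]
  have hsum : w.embedding (Algebra.trace k K ((u - u₀) * d j)) = ∑ σ : K →ₐ[k] ℂ, σ ((u - u₀) * d j) :=
    trace_eq_sum_embeddings ℂ
  rw [hsum]
  have hterm : ∀ σ : K →ₐ[k] ℂ, ‖σ ((u - u₀) * d j)‖ ≤ δ / (n * (C + 1)) * C := by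
    intro σ
    let w' := InfinitePlace.mk σ.toRingHom
    have e : ‖σ ((u - u₀) * d j)‖ = w' ((u - u₀) * d j) := (InfinitePlace.apply σ.toRingHom _).symm
    rw [e, map_mul]
    refine mul_le_mul (hu w').le ?_ (apply_nonneg _ _) (by positivity)
    exact (Finset.single_le_sum (f := fun w' : InfinitePlace K => w' (d j)) (fun _ _ => apply_nonneg _ _)
      (Finset.mem_univ w')).trans (Finset.single_le_sum (f := fun j => ∑ w' : InfinitePlace K, w' (d j))
      (fun _ _ => Finset.sum_nonneg fun _ _ => apply_nonneg _ _) (Finset.mem_univ j))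
  calc ‖∑ σ : K →ₐ[k] ℂ, σ ((u - u₀) * d j)‖ ≤ ∑ σ : K →ₐ[k] ℂ, ‖σ ((u - u₀) * d j)‖ := norm_sum_le _ _
    _ ≤ ∑ _σ : K →ₐ[k] ℂ, δ / (n * (C + 1)) * C := Finset.sum_le_sum fun σ _ => hterm σ
    _ = (n - 1) * C / (n * (C + 1)) * δ := by simp [n]; ring
    _ < δ := by
      refine mul_lt_of_lt_one_left hδ ((div_lt_one (by positivity)).mpr ?_)
      nlinarith

end NFFibLib
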