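import Groth.Agent.NFFibLib.Split
import Groth.Agent.NFFibLib.Over
import Mathlib.FieldTheory.SplittingField.Construction
import Mathlib.FieldTheory.Minpoly.IsIntegrallyClosed

/-!
# Places all of whose extensions have places of degree one in given extensions
-/

set_option autoImplicit false
set_option linter.style.haveILetI false
set_option maxHeartbeats 800000

universe u

open NumberField IsDedekindDomain WithZero Polynomial

namespace NFFibLib

variable {k : Type u} [Field k] [NumberField k]

/-- A monic integral polynomial split in the completion is a product of linear factors modulo the place. -/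
theorem exists_split_residue (v : HeightOneSpectrum (𝓞 k)) {G₀ : (𝓞 k)[X]} (hG₀ : G₀.Monic)
    (hs : (G₀.map (algebraMap (𝓞 k) (v.adicCompletion k))).Splits) :
    ∃ S : Multiset (v.valuation k).valuationSubring,
      ∀ m, v.valuation k (algebraMap (𝓞 k) k (G₀.coeff m) -
        (((S.map fun z => X - C z).prod).coeff m : (v.valuation k).valuationSubring)) < 1 := by
  classical
  let O := v.adicCompletionIntegers k
  let F := G₀.map (algebraMap (𝓞 k) (v.adicCompletion k))
  have hFi : ∀ m, Valued.v (F.coeff m) ≤ 1 := fun m => by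
    simp only [F, coeff_map]
    rw [IsScalarTower.algebraMap_apply (𝓞 k) k (v.adicCompletion k), valued_algebraMap]
    exact v.valuation_le_one _
  have hroot : ∀ r ∈ F.roots, r ∈ O := by
    intro r hr
    have hev : F.eval r = 0 := (mem_roots (hG₀.map _).ne_zero).mp hr
    rw [HeightOneSpectrum.mem_adicCompletionIntegers]
    refine not_lt.mp fun hlt => ?_
    have hd : 0 < F.natDegree := by
      refine Nat.pos_of_ne_zero fun h0 => ?_
      rw [Polynomial.eq_one_of_monic_natDegree_zero (show F.Monic from hG₀.map _) h0, eval_one] at hev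
      exact one_ne_zero hev
    rw [eval_eq_sum_range, Finset.sum_range_succ, show F.coeff F.natDegree = 1 from (hG₀.map _).coeff_natDegree,
      one_mul] at hev
    have h1 : Valued.v (∑ i ∈ Finset.range F.natDegree, F.coeff i * r ^ i) < Valued.v (r ^ F.natDegree) := by
      refine Valuation.map_sum_lt _ (by rw [map_pow]; exact (pow_pos (zero_lt_one.trans hlt) _).ne') fun i hi => ?_
      rw [map_mul, map_pow, map_pow]
      exact lt_of_le_of_lt (mul_le_of_le_one_left zero_le (hFi i)) (pow_lt_pow_right₀ hlt (Finset.mem_range.mp hi))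
    have h2 := Valuation.map_add_eq_of_lt_right _ h1
    rw [hev, map_zero] at h2
    exact absurd (h2 ▸ h1) not_lt_zero
  have hz : ∀ r : v.adicCompletion k, ∃ z : (v.valuation k).valuationSubring, r ∈ O →
      Valued.v (r - algebraMap k _ (z : k)) < 1 := by
    intro r
    by_cases hr : r ∈ O
    · obtain ⟨q, hq⟩ := (v.denseRange_algebraMap k).exists_mem_open
        (s := {x | Valued.v (x - r) < 1}) (by
          rw [isOpen_iff_mem_nhds]
          intro x hx
          rw [Valued.mem_nhds]
          refine ⟨1, fun y hy => ?_⟩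
          show Valued.v (y - r) < 1
          rw [show y - r = (y - x) + (x - r) by ring]
          exact Valuation.map_add_lt _ ((Valuation.restrict_lt_one_iff _).mp (by simpa using hy)) hx)
        ⟨r, by simp⟩
      have hq' : Valued.v (r - algebraMap k _ q) < 1 := by rw [Valuation.map_sub_swap]; exact hq
      refine ⟨⟨q, ?_⟩, fun _ => hq'⟩
      rw [Valuation.mem_valuationSubring_iff, ← valued_algebraMap,
        show algebraMap k (v.adicCompletion k) q = r - (r - algebraMap k _ q) by ring]
      exact (Valuation.map_sub _ _ _).trans (max_le hr hq'.le)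
    · exact ⟨0, fun h => absurd h hr⟩
  choose z hz using hz
  refine ⟨F.roots.map z, fun m => ?_⟩
  let S : (v.valuation k).valuationSubring →+* O :=
    { toFun := fun x => ⟨algebraMap k _ (x : k), by
        rw [HeightOneSpectrum.mem_adicCompletionIntegers, valued_algebraMap]; exact x.2⟩
      map_one' := Subtype.ext (map_one _)
      map_mul' := fun _ _ => Subtype.ext (map_mul _ _ _)
      map_zero' := Subtype.ext (map_zero _)
      map_add' := fun _ _ => Subtype.ext (map_add _ _ _) }
  let R : Multiset O := F.roots.attach.map fun r => ⟨r.1, hroot _ r.2⟩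
  let red := IsLocalRing.residue O
  have hres : ((F.roots.map z).map fun w => red (S w)) = R.map red := by
    rw [Multiset.map_map, Multiset.map_map, ← Multiset.attach_map_val' F.roots (fun r => ((fun w => red (S w)) ∘ z) r)]
    refine Multiset.map_congr rfl fun r _ => ?_
    refine Ideal.Quotient.eq.mpr ?_
    rw [mem_maximalIdeal_iff]
    show Valued.v (algebraMap k (v.adicCompletion k) (z r.1 : k) - r.1) < 1
    rw [Valuation.map_sub_swap]
    exact hz _ (hroot _ r.2)
  let c : O := ⟨F.coeff m, hFi m⟩
  have hprod : (R.map fun r => X - C r).prod.map (algebraMap O (v.adicCompletion k)) = F := by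
    rw [Polynomial.map_multiset_prod, Multiset.map_map, Multiset.map_map]
    conv_rhs => rw [Polynomial.Splits.eq_prod_roots_of_monic (show F.Splits from hs) (show F.Monic from hG₀.map _)]
    rw [← Multiset.attach_map_val' F.roots (fun r => X - C r)]
    congr 1
    refine Multiset.map_congr rfl fun r _ => ?_
    simp
  have hc : c = ((R.map fun r => X - C r).prod).coeff m := Subtype.ext (by
    show F.coeff m = _
    conv_lhs => rw [← hprod, coeff_map]
    rfl)
  have h3 : red c = red (S (((F.roots.map z).map fun w => X - C w).prod.coeff m)) := by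
    have e1 : ∀ (A : Type u) [CommRing A] (f : A →+* IsLocalRing.ResidueField O) (s : Multiset A),
        f (((s.map fun r => X - C r).prod).coeff m) = ((((s.map f).map fun r => X - C r)).prod).coeff m := by
      intro A _ f s
      rw [← coeff_map, Polynomial.map_multiset_prod, Multiset.map_map, Multiset.map_map]
      simp [Function.comp_def]
    rw [hc, e1 O red R, ← RingHom.comp_apply, e1 _ (red.comp S) (F.roots.map z), ← hres]
    rfl
  have h4 := Ideal.Quotient.eq.mp h3
  rw [mem_maximalIdeal_iff] at h4
  rw [← valued_algebraMap, map_sub, ← IsScalarTower.algebraMap_apply (𝓞 k) k (v.adicCompletion k), ← coeff_map]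
  exact h4

/-- A place all of whose extensions have places of degree one in the given extensions. -/
theorem exists_place_split {ι : Type} [Fintype ι] (K L : ι → Type u) [∀ i, Field (K i)] [∀ i, NumberField (K i)]
    [∀ i, Algebra k (K i)] [∀ i, Field (L i)] [∀ i, NumberField (L i)] [∀ i, Algebra (K i) (L i)]
    [∀ i, Algebra k (L i)] [∀ i, IsScalarTower k (K i) (L i)] (B : Finset (HeightOneSpectrum (𝓞 k))) :
    ∃ v ∉ B, ∀ i, ∀ W : HeightOneSpectrum (𝓞 (K i)), W.asIdeal.LiesOver v.asIdeal →
      Nonempty (L i →ₐ[K i] W.adicCompletion (K i)) := by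
  classical
  haveI : ∀ i, FiniteDimensional (K i) (L i) := fun i => Module.Finite.of_restrictScalars_finite ℚ (K i) (L i)
  haveI : ∀ i, FiniteDimensional k (L i) := fun i => Module.Finite.of_restrictScalars_finite ℚ k (L i)
  choose θ hθi hθ using fun i => exists_primitive_integral (k := K i) (L := L i)
  have hθO : ∀ i, IsIntegral (𝓞 k) (θ i) := fun i => (hθi i).tower_top
  let G₀ : ι → (𝓞 k)[X] := fun i => minpoly (𝓞 k) (θ i)
  have hG : ∀ i, (G₀ i).map (algebraMap (𝓞 k) k) = minpoly k (θ i) := fun i =>
    (minpoly.isIntegrallyClosed_eq_field_fractions' k (hθO i)).symm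
  have hsep : ∀ i, ∃ a c : k[X], a * minpoly k (θ i) + c * derivative (minpoly k (θ i)) = 1 := fun i =>
    (Algebra.IsSeparable.isSeparable k (θ i))
  choose a c hac using hsep
  let Bad : Set (HeightOneSpectrum (𝓞 k)) := ⋃ i, ⋃ q ∈ (↑((a i).coeffs ∪ (c i).coeffs) : Set k),
    {v | 1 < v.valuation k q}
  have hBad : Bad.Finite := Set.finite_iUnion fun i => Set.Finite.biUnion (Finset.finite_toSet _) fun q _ =>
    SApproxLib.finite_setOf_one_lt_valuation q
  let P : k[X] := ∏ i, minpoly k (θ i)
  let M := P.SplittingField
  haveI : FiniteDimensional k M := inferInstance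
  haveI : CharZero M := charZero_of_injective_algebraMap (algebraMap k M).injective
  haveI : FiniteDimensional ℚ M := Module.Finite.trans k M
  haveI : NumberField M := ⟨⟩
  obtain ⟨v, hv, ⟨φ⟩⟩ := exists_place_algHom (L := M) (B ∪ hBad.toFinset)
  rw [Finset.mem_union, not_or, Set.Finite.mem_toFinset] at hv
  refine ⟨v, hv.1, fun i W hW => ?_⟩
  haveI := hW
  have hPne : P ≠ 0 := Finset.prod_ne_zero_iff.mpr fun j _ =>
    (minpoly.monic (Algebra.IsIntegral.isIntegral (θ j))).ne_zero
  have hsM : ((minpoly k (θ i)).map (algebraMap k M)).Splits :=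
    (Polynomial.SplittingField.splits P).of_dvd ((Polynomial.map_ne_zero_iff (algebraMap k M).injective).mpr hPne)
      (Polynomial.map_dvd _ (Finset.dvd_prod_of_mem _ (Finset.mem_univ i)))
  have hsv : ((G₀ i).map (algebraMap (𝓞 k) (v.adicCompletion k))).Splits := by
    have h := hsM.map φ.toRingHom
    rwa [Polynomial.map_map, show φ.toRingHom.comp (algebraMap k M) = algebraMap k _ from φ.comp_algebraMap, ← hG, Polynomial.map_map,
      ← IsScalarTower.algebraMap_eq] at h
  obtain ⟨S, hS⟩ := exists_split_residue v (minpoly.monic (hθO i)) hsv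
  let R := (W.valuation (K i)).valuationSubring
  have hθR : IsIntegral R (θ i) := (hθi i).tower_top
  let g := minpoly R (θ i)
  let φR : (v.valuation k).valuationSubring →+* R :=
    { toFun := fun x => ⟨algebraMap k (K i) (x : k), (over_le_one_iff v W (x : k)).mpr x.2⟩
      map_one' := Subtype.ext (map_one _)
      map_mul' := fun _ _ => Subtype.ext (map_mul _ _ _)
      map_zero' := Subtype.ext (map_zero _)
      map_add' := fun _ _ => Subtype.ext (map_add _ _ _) }
  let ψ : 𝓞 k →+* (v.valuation k).valuationSubring :=
    { toFun := fun x => ⟨algebraMap (𝓞 k) k x, v.valuation_le_one x⟩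
      map_one' := Subtype.ext (map_one _)
      map_mul' := fun _ _ => Subtype.ext (map_mul _ _ _)
      map_zero' := Subtype.ext (map_zero _)
      map_add' := fun _ _ => Subtype.ext (map_add _ _ _) }
  have hgd : g ∣ (G₀ i).map (φR.comp ψ) := by
    refine minpoly.isIntegrallyClosed_dvd hθR ?_
    rw [aeval_def, eval₂_map]
    have e : (algebraMap R (L i)).comp (φR.comp ψ) = algebraMap (𝓞 k) (L i) := RingHom.ext fun x => by
      show algebraMap (K i) (L i) (algebraMap k (K i) (algebraMap (𝓞 k) k x)) = _
      rw [← IsScalarTower.algebraMap_apply k (K i) (L i), ← IsScalarTower.algebraMap_apply (𝓞 k) k (L i)]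
    rw [e, ← aeval_def]
    exact minpoly.aeval _ _
  let red := IsLocalRing.residue R
  have hdvd : g.map red ∣ ((S.map fun z => red (φR z)).map fun r => X - C r).prod := by
    have e : ((G₀ i).map (φR.comp ψ)).map red = ((S.map fun z => red (φR z)).map fun r => X - C r).prod := by
      rw [Polynomial.map_map, show ((S.map fun z => red (φR z)).map fun r => X - C r).prod =
          ((S.map fun z => X - C z).prod).map (red.comp φR) by
        rw [Polynomial.map_multiset_prod, Multiset.map_map, Multiset.map_map]
        simp [Function.comp_def]]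
      ext m
      rw [coeff_map, coeff_map, RingHom.comp_apply, RingHom.comp_apply, RingHom.comp_apply]
      refine Ideal.Quotient.eq.mpr ((Valuation.mem_maximalIdeal_iff _ _).mpr ?_)
      show W.valuation (K i) (algebraMap k (K i) _ - algebraMap k (K i) _) < 1
      rw [← map_sub, over_lt_one_iff v W]
      exact hS m
    exact e ▸ Polynomial.map_dvd red hgd
  have hprodne : ((S.map fun z => red (φR z)).map fun r => X - C r).prod ≠ 0 :=
    (monic_multiset_prod_of_monic _ _ fun r _ => monic_X_sub_C r).ne_zero
  have hsplit : (g.map red).Splits :=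
    (Polynomial.Splits.multisetProd (by
      intro f hf
      obtain ⟨r, -, rfl⟩ := Multiset.mem_map.mp hf
      exact Polynomial.Splits.X_sub_C r)).of_dvd hprodne hdvd
  obtain ⟨r, hr⟩ := hsplit.exists_eval_eq_zero (by
    rw [(minpoly.monic hθR).degree_map, Polynomial.degree_eq_natDegree (minpoly.monic hθR).ne_zero]
    exact_mod_cast (minpoly.natDegree_pos hθR).ne')
  have hr' : r ∈ S.map fun z => red (φR z) := by
    obtain ⟨q, hq⟩ := hdvd
    have h := congrArg (Polynomial.eval r) hq
    rw [eval_mul, hr, zero_mul, eval_multiset_prod, Multiset.prod_eq_zero_iff, Multiset.map_map] at h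
    obtain ⟨x, hx, hx0⟩ := Multiset.mem_map.mp h
    simp only [Function.comp_apply, eval_sub, eval_X, eval_C, sub_eq_zero] at hx0
    exact hx0 ▸ hx
  obtain ⟨z, -, rfl⟩ := Multiset.mem_map.mp hr'
  rw [eval_map, eval₂_at_apply] at hr
  have hfg : minpoly (K i) (θ i) = g.map (algebraMap R (K i)) := minpoly.isIntegrallyClosed_eq_field_fractions' _ hθR
  obtain ⟨h, hh⟩ : minpoly (K i) (θ i) ∣ (minpoly k (θ i)).map (algebraMap k (K i)) :=
    minpoly.dvd_map_of_isScalarTower k (K i) (θ i)
  have hGint : ∀ m, W.valuation (K i) (((minpoly k (θ i)).map (algebraMap k (K i))).coeff m) ≤ 1 := fun m => by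
    rw [coeff_map, ← hG, coeff_map, over_le_one_iff v W]
    exact v.valuation_le_one _
  have hhint : ∀ m, W.valuation (K i) (h.coeff m) ≤ 1 := by
    obtain ⟨q, hq⟩ := hgd
    have : h = q.map (algebraMap R (K i)) := by
      refine mul_left_cancel₀ (minpoly.monic (Algebra.IsIntegral.isIntegral (θ i))).ne_zero (hh.symm.trans ?_)
      rw [hfg, ← Polynomial.map_mul, ← hq, ← hG, Polynomial.map_map, Polynomial.map_map]
      rfl
    intro m
    rw [this, coeff_map]
    exact (q.coeff m).2
  have hcoeff : ∀ p : k[X], p.coeffs ⊆ (a i).coeffs ∪ (c i).coeffs →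
      ∀ m, W.valuation (K i) ((p.map (algebraMap k (K i))).coeff m) ≤ 1 := by
    intro p hp m
    rw [coeff_map, over_le_one_iff v W]
    by_cases h0 : p.coeff m = 0
    · simp [h0]
    · have h := hv.2
      simp only [Bad, Set.mem_iUnion, not_exists, Set.mem_ofPred_eq, not_lt] at h
      exact h i _ (hp (coeff_mem_coeffs h0))
  let A := (a i).map (algebraMap k (K i))
  let C' := (c i).map (algebraMap k (K i))
  let f := minpoly (K i) (θ i)
  have hfi : ∀ m, W.valuation (K i) (f.coeff m) ≤ 1 := fun m => by
    show W.valuation (K i) ((minpoly (K i) (θ i)).coeff m) ≤ 1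
    rw [hfg, coeff_map]
    exact (g.coeff m).2
  have hmem : ∀ p : (K i)[X], (∀ m, W.valuation (K i) (p.coeff m) ≤ 1) ↔ ∃ q : R[X], q.map (algebraMap R (K i)) = p := by
    intro p
    refine ⟨fun hp => ?_, ?_⟩
    · have hco : ↑p.coeffs ⊆ ((W.valuation (K i)).valuationSubring.toSubring : Set (K i)) := fun x hx => by
        obtain ⟨n, -, rfl⟩ := Polynomial.mem_coeffs_iff.mp hx
        exact hp n
      exact ⟨p.toSubring _ hco, Polynomial.ext fun n => by rw [coeff_map]; exact coeff_toSubring _ _ _⟩
    · rintro ⟨q, rfl⟩ m
      rw [coeff_map]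
      exact (q.coeff m).2
  obtain ⟨qA, hqA⟩ := (hmem A).mp (hcoeff (a i) Finset.subset_union_left)
  obtain ⟨qC, hqC⟩ := (hmem C').mp (hcoeff (c i) Finset.subset_union_right)
  obtain ⟨qh, hqh⟩ := (hmem h).mp hhint
  have hbez : (A * h + C' * derivative h) * f + (C' * h) * derivative f = 1 := by
    have e := congrArg (Polynomial.map (algebraMap k (K i))) (hac i)
    rw [Polynomial.map_add, Polynomial.map_mul, Polynomial.map_mul, Polynomial.map_one, ← derivative_map, hh,
      derivative_mul] at e
    rw [← e]
    ring
  obtain ⟨root, hroot⟩ := exists_root_of_bezout W (minpoly.monic (Algebra.IsIntegral.isIntegral (θ i))) hfi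
    ((hmem _).mpr ⟨qA * qh + qC * derivative qh, by
      rw [Polynomial.map_add, Polynomial.map_mul, Polynomial.map_mul, ← derivative_map, hqA, hqC, hqh]⟩)
    ((hmem _).mpr ⟨qC * qh, by rw [Polynomial.map_mul, hqC, hqh]⟩) hbez
    (z := (φR z : R)) (φR z).2 (by
      rw [hfg, eval_map, show ((φR z : R) : K i) = algebraMap R (K i) (φR z) from rfl, eval₂_at_apply]
      exact (Valuation.mem_maximalIdeal_iff _ _).mp ((Ideal.Quotient.eq_zero_iff_mem).mp hr))
  exact nonempty_algHom_of_root W (hθ i) hroot

end NFFibLib
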