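import Groth.Agent.NFFibLib.Tool
import Groth.Agent.NFFibLib.SplitAll

/-!
# Locally split values in total degree at most two
-/

set_option autoImplicit false
set_option linter.style.haveILetI false
set_option maxHeartbeats 1000000

universe u

open NumberField IsDedekindDomain WithZero
open scoped TensorProduct

namespace NFFibLib

attribute [local instance] bcAlg

variable {k K L : Type u} [Field k] [NumberField k] [Field K] [NumberField K] [Algebra k K]
  [Field L] [NumberField L] [Algebra K L] [Algebra k L] [IsScalarTower k K L]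

theorem repr_target {κ : Type} [Fintype κ] (bK : Module.Basis κ k K) (F : Type u) [CommRing F] [Algebra k F]
    (b a : K) (t : F) (j : κ) :
    (Algebra.TensorProduct.basis F bK).repr ((1 : F) ⊗ₜ[k] b * (t ⊗ₜ[k] (1 : K) - (1 : F) ⊗ₜ[k] a)) j =
      algebraMap k F (bK.repr b j) * t - algebraMap k F (bK.repr (b * a) j) := by
  rw [mul_sub, Algebra.TensorProduct.tmul_mul_tmul, Algebra.TensorProduct.tmul_mul_tmul, one_mul, one_mul, mul_one,
    map_sub, Finsupp.sub_apply]
  simp [Algebra.TensorProduct.basis_repr_tmul, Algebra.smul_def, mul_comm]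

theorem exists_target {Sf : Finset (HeightOneSpectrum (𝓞 k))}
    (hram : ∀ Q : Ideal (𝓞 L), Q.IsPrime → Q ≠ ⊥ → Q.ramificationIdx (𝓞 K) ≠ 1 → ∃ v ∈ Sf, Q.LiesOver v.asIdeal)
    {b : K} (hb : ∀ W : HeightOneSpectrum (𝓞 K), W.valuation K b ≠ 1 → ∃ v ∈ Sf, W.asIdeal.LiesOver v.asIdeal)
    (W : HeightOneSpectrum (𝓞 K)) (hW : ∀ v ∈ Sf, ¬ W.asIdeal.LiesOver v.asIdeal) (N : ℕ) :
    ∃ z : L, W.valuation K (Algebra.norm K z - b) ≤ exp (-(N : ℤ)) := by
  have hbW : W.valuation K b = 1 := by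
    by_contra h
    obtain ⟨v, hv, hv'⟩ := hb W h
    exact hW v hv hv'
  obtain ⟨z, -, hz⟩ := exists_norm_near (L := L) W (fun Q hQ hQ0 hQW => by
    by_contra h
    obtain ⟨v, hv, hv'⟩ := hram Q hQ hQ0 h
    haveI := hQW
    haveI := hv'
    exact hW v hv (Ideal.LiesOver.tower_bot Q W.asIdeal v.asIdeal)) hbW N
  exact ⟨z, hz⟩

theorem valuation_b {Sf : Finset (HeightOneSpectrum (𝓞 k))} {b : K}
    (hb : ∀ W : HeightOneSpectrum (𝓞 K), W.valuation K b ≠ 1 → ∃ v ∈ Sf, W.asIdeal.LiesOver v.asIdeal)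
    {W : HeightOneSpectrum (𝓞 K)} (hW : ∀ v ∈ Sf, ¬ W.asIdeal.LiesOver v.asIdeal) : W.valuation K b = 1 := by
  by_contra h
  obtain ⟨v, hv, hv'⟩ := hb W h
  exact hW v hv hv'

theorem notMem_of_over {Sf : Finset (HeightOneSpectrum (𝓞 k))} {W : HeightOneSpectrum (𝓞 K)}
    {v : HeightOneSpectrum (𝓞 k)} (h : W.asIdeal.LiesOver v.asIdeal) (hv : v ∉ Sf) :
    ∀ v' ∈ Sf, ¬ W.asIdeal.LiesOver v'.asIdeal := fun _ hv' h' => hv (under_unique h h' ▸ hv')

section Lin

variable (hd : Module.finrank k K = 1) {b : K} (hb0 : b ≠ 0)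

include hd hb0 in
theorem exists_basis_one : ∃ bK : Module.Basis (Fin 1) k K, bK 0 = b := by
  haveI : FiniteDimensional k K := Module.Finite.of_restrictScalars_finite ℚ k K
  have hli : LinearIndependent k ![b] := LinearIndependent.of_subsingleton (R := k) 0 (by simpa using hb0)
  exact ⟨basisOfLinearIndependentOfCardEqFinrank hli (by simp [hd]), by simp⟩

end Lin

theorem repr_smul_one {bK : Module.Basis (Fin 1) k K} {b : K} (hbK : bK 0 = b) (x : k) :
    bK.repr (x • b) 0 = x := by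
  rw [← hbK, map_smul, Module.Basis.repr_self]
  simp

theorem eq_repr_smul {bK : Module.Basis (Fin 1) k K} {b : K} (hbK : bK 0 = b) (u : K) :
    u = bK.repr u 0 • b := by
  conv_lhs => rw [← bK.sum_repr u, Fin.sum_univ_one, hbK]

/-- The case of one rational point. -/
theorem exists_value_one (hd : Module.finrank k K = 1) {b : K} (hb0 : b ≠ 0) {α : k}
    (Sf : Finset (HeightOneSpectrum (𝓞 k))) (Si : Finset (InfinitePlace k))
    (hb : ∀ W : HeightOneSpectrum (𝓞 K), W.valuation K b ≠ 1 → ∃ v ∈ Sf, W.asIdeal.LiesOver v.asIdeal)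
    (v₀ : HeightOneSpectrum (𝓞 k)) (hv₀ : v₀ ∉ Sf)
    (hsplit : ∀ W : HeightOneSpectrum (𝓞 K), W.asIdeal.LiesOver v₀.asIdeal → Nonempty (L →ₐ[K] W.adicCompletion K))
    (tf : (v : HeightOneSpectrum (𝓞 k)) → v.adicCompletion k) (ti : (w : InfinitePlace k) → w.Completion)
    (htf : ∀ v ∈ Sf, ∃ x : v.adicCompletion k ⊗[k] L, Algebra.norm (v.adicCompletion k ⊗[k] K) x =
      (1 : v.adicCompletion k) ⊗ₜ[k] b * (tf v ⊗ₜ[k] (1 : K) - (1 : v.adicCompletion k) ⊗ₜ[k] algebraMap k K α))
    (hti : ∀ w ∈ Si, ∃ x : w.Completion ⊗[k] L, Algebra.norm (w.Completion ⊗[k] K) x =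
      (1 : w.Completion) ⊗ₜ[k] b * (ti w ⊗ₜ[k] (1 : K) - (1 : w.Completion) ⊗ₜ[k] algebraMap k K α))
    (Uf : (v : HeightOneSpectrum (𝓞 k)) → Set (v.adicCompletion k))
    (hUf : ∀ v ∈ Sf, IsOpen (Uf v) ∧ tf v ∈ Uf v)
    (Ui : (w : InfinitePlace k) → Set w.Completion) (hUi : ∀ w ∈ Si, IsOpen (Ui w) ∧ ti w ∈ Ui w) :
    ∃ t₀ : k, (∀ v ∈ Sf, algebraMap k (v.adicCompletion k) t₀ ∈ Uf v) ∧
      (∀ w ∈ Si, algebraMap k w.Completion t₀ ∈ Ui w) ∧
      ∀ W : HeightOneSpectrum (𝓞 K), W.valuation K (algebraMap k K t₀ - algebraMap k K α) < 1 →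
        (∃ v ∈ Sf, W.asIdeal.LiesOver v.asIdeal) ∨ Nonempty (L →ₐ[K] W.adicCompletion K) := by
  classical
  obtain ⟨bK, hbK⟩ := exists_basis_one hd hb0
  have hba : b * algebraMap k K α = α • b := by rw [Algebra.smul_def, mul_comm]
  have hco : ∀ (F : Type u) [CommRing F] [Algebra k F] (t : F), (Algebra.TensorProduct.basis F bK).repr
      ((1 : F) ⊗ₜ[k] b * (t ⊗ₜ[k] (1 : K) - (1 : F) ⊗ₜ[k] algebraMap k K α)) 0 = t - algebraMap k F α := by
    intro F _ _ t
    rw [repr_target, hba, repr_smul_one hbK, show bK.repr b 0 = 1 by simpa using repr_smul_one hbK (1 : k), map_one,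
      one_mul]
  let Vf : (v : HeightOneSpectrum (𝓞 k)) → Set (Fin 1 → v.adicCompletion k) :=
    fun v => {c | algebraMap k _ α + c 0 ∈ Uf v}
  let Vi : (w : InfinitePlace k) → Set (Fin 1 → w.Completion) :=
    fun w => if w ∈ Si then {c | algebraMap k _ α + c 0 ∈ Ui w} else Set.univ
  have hVf : ∀ v ∈ Sf, IsOpen (Vf v) := fun v hv =>
    (hUf v hv).1.preimage (continuous_const.add (continuous_apply 0))
  have hVi : ∀ w, IsOpen (Vi w) := fun w => by
    by_cases hw : w ∈ Si
    · simp only [Vi, hw, if_true]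
      exact (hUi w hw).1.preimage (continuous_const.add (continuous_apply 0))
    · simp only [Vi, hw, if_false, isOpen_univ]
  obtain ⟨z, hzf, hzi⟩ := exists_global_norm bK Sf Vf (fun v hv => ⟨hVf v hv, by
      obtain ⟨x, hx⟩ := htf v hv
      refine ⟨x, ?_⟩
      show algebraMap k _ α + _ ∈ Uf v
      rw [hx, hco, add_sub_cancel]
      exact (hUf v hv).2⟩) Vi (fun w => ⟨hVi w, by
      by_cases hw : w ∈ Si
      · obtain ⟨x, hx⟩ := hti w hw
        refine ⟨x, ?_⟩
        simp only [Vi, hw, if_true, Set.mem_ofPred_eq]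
        rw [hx, hco, add_sub_cancel]
        exact (hUi w hw).2
      · exact ⟨1, by simp only [Vi, hw, if_false, Set.mem_univ]⟩⟩)
  obtain ⟨W₀, hW₀⟩ := exists_over (K := K) v₀
  obtain ⟨u, -, huf, hui, -, hu⟩ := exists_near_over bK z Sf Vf (fun v hv => ⟨hVf v hv, hzf v hv⟩) Vi
    (fun w => ⟨hVi w, hzi w⟩) ∅ (by simp) (fun _ => 1) (fun _ => 0) W₀ (notMem_of_over hW₀ hv₀) (by simp)
  refine ⟨α + bK.repr u 0, fun v hv => ?_, fun w hw => ?_, fun W hW => ?_⟩
  · rw [map_add]; exact huf v hv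
  · have h := hui w
    simp only [Vi, hw, if_true, Set.mem_ofPred_eq] at h
    rw [map_add]; exact h
  by_cases hS : ∃ v ∈ Sf, W.asIdeal.LiesOver v.asIdeal
  · exact Or.inl hS
  refine Or.inr ?_
  push Not at hS
  have hu' : W.valuation K u < 1 := by
    rw [eq_repr_smul hbK u, Algebra.smul_def, map_mul, valuation_b hb hS, mul_one]
    rwa [map_add, add_sub_cancel_left] at hW
  by_cases h0 : W = W₀
  · exact hsplit W (h0 ▸ hW₀)
  · exact ((hu W hS (by simp) h0).2).resolve_left hu'.ne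

/-- The case of one quadratic point. -/
theorem exists_value_two (hd : Module.finrank k K = 2) {b : K} (hb0 : b ≠ 0) {a : K}
    (ha : IntermediateField.adjoin k {a} = ⊤)
    (Sf : Finset (HeightOneSpectrum (𝓞 k))) (Si : Finset (InfinitePlace k))
    (hb : ∀ W : HeightOneSpectrum (𝓞 K), W.valuation K b ≠ 1 → ∃ v ∈ Sf, W.asIdeal.LiesOver v.asIdeal)
    (hram : ∀ Q : Ideal (𝓞 L), Q.IsPrime → Q ≠ ⊥ → Q.ramificationIdx (𝓞 K) ≠ 1 → ∃ v ∈ Sf, Q.LiesOver v.asIdeal)
    (hsplit : ∀ B : Finset (HeightOneSpectrum (𝓞 k)), ∃ v ∉ B, ∀ W : HeightOneSpectrum (𝓞 K),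
      W.asIdeal.LiesOver v.asIdeal → Nonempty (L →ₐ[K] W.adicCompletion K))
    (tf : (v : HeightOneSpectrum (𝓞 k)) → v.adicCompletion k) (ti : (w : InfinitePlace k) → w.Completion)
    (htf : ∀ v ∈ Sf, ∃ x : v.adicCompletion k ⊗[k] L, Algebra.norm (v.adicCompletion k ⊗[k] K) x =
      (1 : v.adicCompletion k) ⊗ₜ[k] b * (tf v ⊗ₜ[k] (1 : K) - (1 : v.adicCompletion k) ⊗ₜ[k] a))
    (hti : ∀ w ∈ Si, ∃ x : w.Completion ⊗[k] L, Algebra.norm (w.Completion ⊗[k] K) x =
      (1 : w.Completion) ⊗ₜ[k] b * (ti w ⊗ₜ[k] (1 : K) - (1 : w.Completion) ⊗ₜ[k] a))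
    (Uf : (v : HeightOneSpectrum (𝓞 k)) → Set (v.adicCompletion k))
    (hUf : ∀ v ∈ Sf, IsOpen (Uf v) ∧ tf v ∈ Uf v)
    (Ui : (w : InfinitePlace k) → Set w.Completion) (hUi : ∀ w ∈ Si, IsOpen (Ui w) ∧ ti w ∈ Ui w) :
    ∃ t₀ : k, (∀ v ∈ Sf, algebraMap k (v.adicCompletion k) t₀ ∈ Uf v) ∧
      (∀ w ∈ Si, algebraMap k w.Completion t₀ ∈ Ui w) ∧
      ∀ W : HeightOneSpectrum (𝓞 K), W.valuation K (algebraMap k K t₀ - a) < 1 →
        (∃ v ∈ Sf, W.asIdeal.LiesOver v.asIdeal) ∨ Nonempty (L →ₐ[K] W.adicCompletion K) := by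
  classical
  haveI : FiniteDimensional k K := Module.Finite.of_restrictScalars_finite ℚ k K
  haveI : FiniteDimensional K L := Module.Finite.of_restrictScalars_finite ℚ K L
  have hli : LinearIndependent k ![b, b * a] := by
    refine LinearIndependent.pair_iff.mpr fun s t h => ?_
    by_cases ht : t = 0
    · subst ht
      simp only [zero_smul, add_zero, smul_eq_zero, hb0, or_false] at h
      exact ⟨h, rfl⟩
    · exfalso
      have h1 : b * (algebraMap k K s + algebraMap k K t * a) = 0 := by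
        rw [← h, Algebra.smul_def, Algebra.smul_def]; ring
      have h2 : algebraMap k K s + algebraMap k K t * a = 0 := (mul_eq_zero.mp h1).resolve_left hb0
      have h3 : a = algebraMap k K (-s / t) := by
        have ht' : algebraMap k K t ≠ 0 := (map_ne_zero _).mpr ht
        rw [map_div₀, map_neg, eq_div_iff ht']
        linear_combination h2
      have h4 : IntermediateField.adjoin k {a} = ⊥ := by
        rw [IntermediateField.adjoin_simple_eq_bot_iff, h3]
        exact IntermediateField.algebraMap_mem _ _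
      rw [ha] at h4
      have := congrArg (fun E : IntermediateField k K => Module.finrank k E) h4
      simp [IntermediateField.finrank_top', hd] at this
  obtain ⟨bK, hbK0, hbK1⟩ : ∃ bK : Module.Basis (Fin 2) k K, bK 0 = b ∧ bK 1 = b * a :=
    ⟨basisOfLinearIndependentOfCardEqFinrank hli (by simp [hd]), by simp, by simp⟩
  have hr0 : bK.repr b = Finsupp.single 0 1 := by rw [← hbK0, Module.Basis.repr_self]
  have hr1 : bK.repr (b * a) = Finsupp.single 1 1 := by rw [← hbK1, Module.Basis.repr_self]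
  have hco : ∀ (F : Type u) [CommRing F] [Algebra k F] (t : F), ⇑((Algebra.TensorProduct.basis F bK).repr
      ((1 : F) ⊗ₜ[k] b * (t ⊗ₜ[k] (1 : K) - (1 : F) ⊗ₜ[k] a))) = ![t, -1] := by
    intro F _ _ t
    funext j
    rw [repr_target, hr0, hr1]
    fin_cases j <;> simp
  let Vf : (v : HeightOneSpectrum (𝓞 k)) → Set (Fin 2 → v.adicCompletion k) :=
    fun v => {c | c 1 ≠ 0} ∩ (fun c => -c 0 / c 1) ⁻¹' Uf v
  let Vi : (w : InfinitePlace k) → Set (Fin 2 → w.Completion) :=
    fun w => if w ∈ Si then {c | c 1 ≠ 0} ∩ (fun c => -c 0 / c 1) ⁻¹' Ui w else {c | c 1 ≠ 0}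
  have hVf : ∀ v ∈ Sf, IsOpen (Vf v) := fun v hv =>
    (((continuous_apply 0).neg.continuousOn).div (continuous_apply 1).continuousOn fun c hc => hc).isOpen_inter_preimage
      (isOpen_ne.preimage (continuous_apply 1)) (hUf v hv).1
  have hVi : ∀ w, IsOpen (Vi w) := fun w => by
    by_cases hw : w ∈ Si
    · simp only [Vi, hw, if_true]
      exact (((continuous_apply 0).neg.continuousOn).div (continuous_apply 1).continuousOn
        fun c hc => hc).isOpen_inter_preimage (isOpen_ne.preimage (continuous_apply 1)) (hUi w hw).1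
    · simp only [Vi, hw, if_false]
      exact isOpen_ne.preimage (continuous_apply 1)
  have hglob : ∃ z : L, bK.repr (Algebra.norm K z) 1 ≠ 0 := by
    by_contra hc
    push Not at hc
    let d := Module.finrank K L
    let φ : K →ₗ[k] k := bK.coord 1
    let Q : Polynomial K := (Polynomial.X + Polynomial.C a) ^ d
    let P : Polynomial k := ∑ m ∈ Finset.range (d + 1), Polynomial.monomial m (φ (Q.coeff m))
    have hQd : Q.natDegree = d := by simp [Q, Polynomial.natDegree_pow]
    have hP : P = 0 := by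
      refine Polynomial.eq_zero_of_infinite_isRoot P (Set.Infinite.mono (s := Set.range ((↑) : ℕ → k)) ?_
        (Set.infinite_range_of_injective Nat.cast_injective))
      rintro _ ⟨m, rfl⟩
      show P.eval (m : k) = 0
      have h := hc (algebraMap K L ((m : K) + a))
      rw [Algebra.norm_algebraMap] at h
      have he : ((m : K) + a) ^ d = Q.eval (m : K) := by simp [Q, add_comm]
      rw [he, Polynomial.eval_eq_sum_range, hQd, map_sum, Finsupp.finsetSum_apply] at h
      rw [Polynomial.eval_finsetSum]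
      refine Eq.trans (Finset.sum_congr rfl fun i _ => ?_) h
      rw [Polynomial.eval_monomial, show (Q.coeff i * (m : K) ^ i) = ((m : k) ^ i) • Q.coeff i by
        rw [Algebra.smul_def, map_pow, map_natCast, mul_comm], map_smul, Finsupp.smul_apply, smul_eq_mul, mul_comm]
      rfl
    have hcoef : ∀ i ∈ Finset.range (d + 1), φ (Q.coeff i) = 0 := fun i hi => by
      have h := congrArg (fun p : Polynomial k => p.coeff i) hP
      simpa [P, Polynomial.finsetSum_coeff, Polynomial.coeff_monomial, Finset.sum_ite_eq', hi] using h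
    have hd0 : 0 < d := Module.finrank_pos
    have h1 := hcoef d (by simp)
    have h2 := hcoef (d - 1) (by simp)
    simp only [Q, Polynomial.coeff_X_add_C_pow, Nat.sub_self, pow_zero, Nat.choose_self, Nat.cast_one, mul_one] at h1
    simp only [Q, Polynomial.coeff_X_add_C_pow] at h2
    rw [show d - (d - 1) = 1 by omega, pow_one,
      show d.choose (d - 1) = d by rw [Nat.choose_symm (by omega), Nat.choose_one_right],
      show a * (d : K) = (d : k) • a by rw [Algebra.smul_def, map_natCast, mul_comm], map_smul, smul_eq_mul,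
      mul_eq_zero, Nat.cast_eq_zero] at h2
    have h3 : φ a = 0 := h2.resolve_left hd0.ne'
    have hsum : ∀ y, y = bK.repr y 0 • b + bK.repr y 1 • (b * a) := fun y => by
      conv_lhs => rw [← bK.sum_repr y, Fin.sum_univ_two, hbK0, hbK1]
    have e1 : (1 : K) = bK.repr 1 0 • b := by
      have h := hsum 1
      rw [show bK.repr 1 1 = 0 from h1, zero_smul, add_zero] at h
      exact h
    have e2 : a = bK.repr a 0 • b := by
      have h := hsum a
      rw [show bK.repr a 1 = 0 from h3, zero_smul, add_zero] at h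
      exact h
    have e3 : b * a = bK.repr a 0 • (b * b) := by
      conv_lhs => rw [e2, mul_smul_comm]
    have hc0 : bK.repr 1 0 ≠ 0 := fun h0 => one_ne_zero (α := K) (by rw [e1, h0, zero_smul])
    have e4 : b * a = (bK.repr a 0 / bK.repr 1 0) • b := by
      have e5 : b = bK.repr 1 0 • (b * b) := by rw [← mul_smul_comm, ← e1, mul_one]
      calc b * a = bK.repr a 0 • (b * b) := e3
        _ = (bK.repr a 0 / bK.repr 1 0) • (bK.repr 1 0 • (b * b)) := by rw [smul_smul, div_mul_cancel₀ _ hc0]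
        _ = (bK.repr a 0 / bK.repr 1 0) • b := congrArg _ e5.symm
    have := congrArg (fun y => bK.repr y 1) e4
    simp [hr1, hr0] at this
  obtain ⟨zg, hzg⟩ := hglob
  obtain ⟨z, hzf, hzi⟩ := exists_global_norm bK Sf Vf (fun v hv => ⟨hVf v hv, by
      obtain ⟨x, hx⟩ := htf v hv
      refine ⟨x, ?_⟩
      rw [hx, hco]
      exact ⟨by simp, by simpa [neg_div_neg_eq] using (hUf v hv).2⟩⟩) Vi (fun w => ⟨hVi w, by
      by_cases hw : w ∈ Si
      · obtain ⟨x, hx⟩ := hti w hw
        refine ⟨x, ?_⟩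
        simp only [Vi, hw, if_true]
        rw [hx, hco]
        exact ⟨by simp, by simpa [neg_div_neg_eq] using (hUi w hw).2⟩
      · obtain ⟨x, hx⟩ := exists_witness_one_tmul (k := k) (K := K) w.Completion zg
        refine ⟨x, ?_⟩
        simp only [Vi, hw, if_false, Set.mem_ofPred_eq]
        rw [hx, Algebra.TensorProduct.basis_repr_tmul, one_smul, Finsupp.mapRange_apply]
        exact (_root_.map_ne_zero (algebraMap k w.Completion)).mpr hzg⟩)
  obtain ⟨d, hd'⟩ := exists_trace_repr bK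
  choose un hun using fun W : HeightOneSpectrum (𝓞 K) => exists_under (k := k) W
  let Tk := ((SApproxLib.finite_setOf_one_lt_valuation (d 1)).toFinset.image un).filter (fun v => v ∉ Sf)
  let T := (finite_over (K := K) Tk).toFinset
  have hT : ∀ W, W ∈ T ↔ ∃ v ∈ Tk, W.asIdeal.LiesOver v.asIdeal := fun W => Set.Finite.mem_toFinset _
  have hTk : ∀ v ∈ Tk, v ∉ Sf := fun v hv => (Finset.mem_filter.mp hv).2
  have hTS : ∀ W ∈ T, ∀ v ∈ Sf, ¬ W.asIdeal.LiesOver v.asIdeal := fun W hW => by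
    obtain ⟨v, hv, h⟩ := (hT W).mp hW
    exact notMem_of_over h (hTk v hv)
  have hN : ∀ W : HeightOneSpectrum (𝓞 K), ∃ N : ℕ, 1 ≤ N ∧ exp (-(N : ℤ)) * W.valuation K (d 1) ≤ 1 := fun W => by
    rcases eq_or_ne (W.valuation K (d 1)) 0 with h0 | h0
    · exact ⟨1, le_rfl, by rw [h0, mul_zero]; exact zero_le⟩
    · refine ⟨max 1 (log (W.valuation K (d 1))).toNat, le_max_left _ _, ?_⟩
      nth_rw 2 [← exp_log h0]
      rw [← exp_add, ← exp_zero, exp_le_exp]
      have := le_max_right 1 (log (W.valuation K (d 1))).toNat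
      omega
  choose N hN1 hN2 using hN
  have hz' : ∀ W : HeightOneSpectrum (𝓞 K), ∃ z : L, W ∈ T →
      W.valuation K (Algebra.norm K z - b) ≤ exp (-(N W : ℤ)) := fun W => by
    by_cases hW : W ∈ T
    · obtain ⟨z, hz⟩ := exists_target hram hb W (hTS W hW) (N W)
      exact ⟨z, fun _ => hz⟩
    · exact ⟨0, fun h => absurd h hW⟩
  choose zT hzT using hz'
  obtain ⟨v₀, hv₀, hsp⟩ := hsplit (Sf ∪ Tk)
  rw [Finset.mem_union, not_or] at hv₀
  obtain ⟨W₀, hW₀⟩ := exists_over (K := K) v₀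
  have hW₀T : W₀ ∉ T := fun h => by
    obtain ⟨v, hv, h'⟩ := (hT W₀).mp h
    exact hv₀.2 (under_unique hW₀ h' ▸ hv)
  obtain ⟨u, -, huf, hui, huT, hu⟩ := exists_near_over bK z Sf Vf (fun v hv => ⟨hVf v hv, hzf v hv⟩) Vi
    (fun w => ⟨hVi w, hzi w⟩) T hTS zT N W₀ (notMem_of_over hW₀ hv₀.1) hW₀T
  let x := bK.repr u 0
  let y := bK.repr u 1
  have hy : y ≠ 0 := by
    obtain ⟨w⟩ := (inferInstance : Nonempty (InfinitePlace k))
    have h := hui w
    intro hy0
    by_cases hw : w ∈ Si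
    · simp only [Vi, hw, if_true] at h
      exact h.1 (show algebraMap k w.Completion (bK.repr u 1) = 0 by rw [show bK.repr u 1 = 0 from hy0, map_zero])
    · simp only [Vi, hw, if_false] at h
      exact h (show algebraMap k w.Completion (bK.repr u 1) = 0 by rw [show bK.repr u 1 = 0 from hy0, map_zero])
  refine ⟨-x / y, fun v hv => ?_, fun w hw => ?_, fun W hW => ?_⟩
  · rw [map_div₀, map_neg]; exact (huf v hv).2
  · have h := hui w
    simp only [Vi, hw, if_true] at h
    rw [map_div₀, map_neg]; exact h.2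
  by_cases hS : ∃ v ∈ Sf, W.asIdeal.LiesOver v.asIdeal
  · exact Or.inl hS
  refine Or.inr ?_
  push Not at hS
  by_cases h0 : (un W) = v₀
  · exact hsp W (h0 ▸ hun W)
  have hne : ∀ W' : HeightOneSpectrum (𝓞 K), W'.asIdeal.LiesOver (un W).asIdeal → W' ≠ W₀ := fun W' h e =>
    h0 (under_unique h (e ▸ hW₀))
  have hvS : un W ∉ Sf := fun h => hS _ h (hun W)
  haveI := hun W
  have hsum : u = algebraMap k K x * b + algebraMap k K y * (b * a) := by
    conv_lhs => rw [← bK.sum_repr u, Fin.sum_univ_two, hbK0, hbK1, Algebra.smul_def, Algebra.smul_def]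
  have hyK : algebraMap k K y ≠ 0 := (map_ne_zero _).mpr hy
  have hta : algebraMap k K (-x / y) - a = -(u / b) / algebraMap k K y := by
    rw [map_div₀, map_neg, hsum]
    field_simp
    ring
  have hWb : W.valuation K b = 1 := valuation_b hb hS
  rw [hta, map_div₀, Valuation.map_neg, map_div₀, hWb, div_one] at hW
  have hnear : ∀ W' ∈ T, W'.valuation K (u - b) ≤ exp (-(N W' : ℤ)) := fun W' hW' => by
    rw [← sub_add_sub_cancel u (Algebra.norm K (zT W')) b]
    exact (Valuation.map_add _ _ _).trans (max_le (huT W' hW') (hzT W' hW'))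
  have hy1 : W.valuation K (algebraMap k K y) ≤ 1 := by
    rw [over_le_one_iff (un W) W]
    by_cases hv : un W ∈ Tk
    · have hy' : y = Algebra.trace k K ((u - b) * d 1) := by
        rw [← hd', map_sub, Finsupp.sub_apply, hr0]
        simp [y]
      rw [hy']
      refine valuation_trace_le_one (un W) fun W' hW' => ?_
      rw [map_mul]
      exact le_trans (mul_le_mul' (hnear W' ((hT W').mpr ⟨_, hv, hW'⟩)) le_rfl) (hN2 W')
    · rw [show y = Algebra.trace k K (u * d 1) from hd' u 1]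
      refine valuation_trace_le_one (un W) fun W' hW' => ?_
      have hW'T : W' ∉ T := fun h => by
        obtain ⟨v, hv', h'⟩ := (hT W').mp h
        exact hv (under_unique hW' h' ▸ hv')
      rw [map_mul]
      refine mul_le_one₀ (hu W' (notMem_of_over hW' hvS) hW'T (hne W' hW')).1 zero_le (not_lt.mp fun hlt => hv ?_)
      refine Finset.mem_filter.mpr ⟨Finset.mem_image.mpr ⟨W', (Set.Finite.mem_toFinset _).mpr hlt,
        (under_unique hW' (hun W')).symm⟩, hvS⟩
  have hlt : W.valuation K u < 1 := by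
    rw [div_lt_one₀ (zero_lt_iff.mpr ((Valuation.ne_zero_iff _).mpr hyK))] at hW
    exact hW.trans_le hy1
  by_cases hWT : W ∈ T
  · exfalso
    have h1 : W.valuation K (u - b) < W.valuation K b := by
      rw [hWb]
      refine (hnear W hWT).trans_lt ((exp_lt_exp.mpr ?_).trans_eq exp_zero)
      have := hN1 W
      omega
    have h2 := Valuation.map_add_eq_of_lt_right _ h1
    rw [sub_add_cancel, hWb] at h2
    exact hlt.ne h2
  · exact (hu W hS hWT (hne W (hun W))).2.resolve_left hlt.ne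

end NFFibLib
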