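import Groth.Agent.NFFibLib.Deg2

/-!
# Locally split values for two rational points
-/

set_option autoImplicit false
set_option linter.style.haveILetI false
set_option maxHeartbeats 1000000

universe u

open NumberField IsDedekindDomain WithZero
open scoped TensorProduct

namespace NFFibLib

attribute [local instance] bcAlg

variable {k : Type u} [Field k] [NumberField k]

theorem algebraMap_bijective_of_finrank_one {K : Type u} [Field K] [NumberField K] [Algebra k K]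
    (hd : Module.finrank k K = 1) : Function.Bijective (algebraMap k K) :=
  ⟨(algebraMap k K).injective, fun x => by
    haveI : FiniteDimensional k K := Module.Finite.of_restrictScalars_finite ℚ k K
    obtain ⟨c, hc⟩ := (finrank_eq_one_iff_of_nonzero' (1 : K) one_ne_zero).mp hd x
    exact ⟨c, by rw [Algebra.algebraMap_eq_smul_one, hc]⟩⟩

/-- One of two factors. -/
theorem zero_side {K L : Type u} [Field K] [NumberField K] [Algebra k K] [Field L] [Algebra K L]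
    {b u : K} {Δ c c' : k} {W : HeightOneSpectrum (𝓞 K)} {v : HeightOneSpectrum (𝓞 k)}
    [W.asIdeal.LiesOver v.asIdeal] (hu : u = algebraMap k K c * b) (hb : W.valuation K b = 1)
    (hΔ : v.valuation k Δ = 1) (hcc : v.valuation k (c - c') ≤ 1) (hne : c - c' ≠ 0)
    (h : W.valuation K u = 1 ∨ Nonempty (L →ₐ[K] W.adicCompletion K))
    (hlt : v.valuation k (Δ * c / (c - c')) < 1) : Nonempty (L →ₐ[K] W.adicCompletion K) := by
  refine h.resolve_left fun h1 => ?_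
  rw [hu, map_mul, hb, mul_one, over_eq_one_iff v W] at h1
  rw [map_div₀, map_mul, hΔ, h1, one_mul,
    div_lt_one₀ (zero_lt_iff.mpr ((Valuation.ne_zero_iff _).mpr hne))] at hlt
  exact not_lt.mpr hcc hlt

variable {K₀ L₀ K₁ L₁ : Type u} [Field K₀] [NumberField K₀] [Algebra k K₀]
  [Field L₀] [NumberField L₀] [Algebra K₀ L₀] [Algebra k L₀] [IsScalarTower k K₀ L₀]
  [Field K₁] [NumberField K₁] [Algebra k K₁]
  [Field L₁] [NumberField L₁] [Algebra K₁ L₁] [Algebra k L₁] [IsScalarTower k K₁ L₁]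

theorem repr_target_one {K : Type u} [Field K] [Algebra k K] {bK : Module.Basis (Fin 1) k K} {b : K}
    (hbK : bK 0 = b) (F : Type u) [CommRing F] [Algebra k F] (α : k) (t : F) :
    (Algebra.TensorProduct.basis F bK).repr
      ((1 : F) ⊗ₜ[k] b * (t ⊗ₜ[k] (1 : K) - (1 : F) ⊗ₜ[k] algebraMap k K α)) 0 = t - algebraMap k F α := by
  have h1 : bK.repr b = Finsupp.single 0 1 := by rw [← hbK, Module.Basis.repr_self]
  have h2 : bK.repr (b * algebraMap k K α) 0 = α := by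
    rw [mul_comm, ← Algebra.smul_def, map_smul, h1]
    simp
  rw [mul_sub, Algebra.TensorProduct.tmul_mul_tmul, Algebra.TensorProduct.tmul_mul_tmul, one_mul, one_mul, mul_one,
    map_sub, Finsupp.sub_apply, Algebra.TensorProduct.basis_repr_tmul, Algebra.TensorProduct.basis_repr_tmul,
    Finsupp.smul_apply, Finsupp.smul_apply, Finsupp.mapRange_apply, Finsupp.mapRange_apply, h1, h2]
  simp

omit [NumberField k] in
theorem continuousAt_pair {F : Type u} [Field F] [TopologicalSpace F] [IsTopologicalRing F] [ContinuousInv₀ F]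
    (A B : F) (hAB : B - A ≠ 0) (t : F) {U : Set F} (hU : IsOpen U) (ht : t ∈ U) :
    ∃ O₀ O₁ : Set F, IsOpen O₀ ∧ IsOpen O₁ ∧ t - A ∈ O₀ ∧ t - B ∈ O₁ ∧
      ∀ c₀ ∈ O₀, ∀ c₁ ∈ O₁, A + (B - A) * c₀ / (c₀ - c₁) ∈ U := by
  have hden : (t - A) - (t - B) ≠ 0 := by simpa using hAB
  have hc : ContinuousAt (fun p : F × F => A + (B - A) * p.1 / (p.1 - p.2)) (t - A, t - B) :=
    continuousAt_const.add ((continuousAt_const.mul continuousAt_fst).div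
      (continuousAt_fst.sub continuousAt_snd) hden)
  have hval : A + (B - A) * (t - A) / ((t - A) - (t - B)) = t := by
    field_simp
    ring
  have hmem : (fun p : F × F => A + (B - A) * p.1 / (p.1 - p.2)) ⁻¹' U ∈ nhds (t - A, t - B) :=
    hc.preimage_mem_nhds (hU.mem_nhds (by rw [hval]; exact ht))
  obtain ⟨O₀, hO₀, hm₀, O₁, hO₁, hm₁, hsub⟩ : ∃ O₀ : Set F, IsOpen O₀ ∧ t - A ∈ O₀ ∧ ∃ O₁ : Set F,
      IsOpen O₁ ∧ t - B ∈ O₁ ∧ O₀ ×ˢ O₁ ⊆ (fun p : F × F => A + (B - A) * p.1 / (p.1 - p.2)) ⁻¹' U := by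
    obtain ⟨a, b, ha, hma, hb, hmb, h⟩ := mem_nhds_prod_iff'.mp hmem
    exact ⟨a, ha, hma, b, hb, hmb, h⟩
  refine ⟨O₀, O₁, hO₀, hO₁, hm₀, hm₁, fun c₀ h₀ c₁ h₁ => ?_⟩
  exact hsub (show (c₀, c₁) ∈ O₀ ×ˢ O₁ from ⟨h₀, h₁⟩)

/-- The case of two rational points. -/
theorem exists_value_pair (hd₀ : Module.finrank k K₀ = 1) (hd₁ : Module.finrank k K₁ = 1) {b₀ : K₀} {b₁ : K₁}
    (hb₀0 : b₀ ≠ 0) (hb₁0 : b₁ ≠ 0) {α₀ α₁ : k} (hα : α₀ ≠ α₁)
    (Sf : Finset (HeightOneSpectrum (𝓞 k))) (Si : Finset (InfinitePlace k))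
    (hb₀ : ∀ W : HeightOneSpectrum (𝓞 K₀), W.valuation K₀ b₀ ≠ 1 → ∃ v ∈ Sf, W.asIdeal.LiesOver v.asIdeal)
    (hb₁ : ∀ W : HeightOneSpectrum (𝓞 K₁), W.valuation K₁ b₁ ≠ 1 → ∃ v ∈ Sf, W.asIdeal.LiesOver v.asIdeal)
    (hram₀ : ∀ Q : Ideal (𝓞 L₀), Q.IsPrime → Q ≠ ⊥ → Q.ramificationIdx (𝓞 K₀) ≠ 1 → ∃ v ∈ Sf, Q.LiesOver v.asIdeal)
    (hram₁ : ∀ Q : Ideal (𝓞 L₁), Q.IsPrime → Q ≠ ⊥ → Q.ramificationIdx (𝓞 K₁) ≠ 1 → ∃ v ∈ Sf, Q.LiesOver v.asIdeal)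
    (hsplit : ∀ B : Finset (HeightOneSpectrum (𝓞 k)), ∃ v ∉ B,
      (∀ W : HeightOneSpectrum (𝓞 K₀), W.asIdeal.LiesOver v.asIdeal → Nonempty (L₀ →ₐ[K₀] W.adicCompletion K₀)) ∧
      ∀ W : HeightOneSpectrum (𝓞 K₁), W.asIdeal.LiesOver v.asIdeal → Nonempty (L₁ →ₐ[K₁] W.adicCompletion K₁))
    (tf : (v : HeightOneSpectrum (𝓞 k)) → v.adicCompletion k) (ti : (w : InfinitePlace k) → w.Completion)
    (htf₀ : ∀ v ∈ Sf, ∃ x : v.adicCompletion k ⊗[k] L₀, Algebra.norm (v.adicCompletion k ⊗[k] K₀) x =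
      (1 : v.adicCompletion k) ⊗ₜ[k] b₀ * (tf v ⊗ₜ[k] (1 : K₀) - (1 : v.adicCompletion k) ⊗ₜ[k] algebraMap k K₀ α₀))
    (hti₀ : ∀ w ∈ Si, ∃ x : w.Completion ⊗[k] L₀, Algebra.norm (w.Completion ⊗[k] K₀) x =
      (1 : w.Completion) ⊗ₜ[k] b₀ * (ti w ⊗ₜ[k] (1 : K₀) - (1 : w.Completion) ⊗ₜ[k] algebraMap k K₀ α₀))
    (htf₁ : ∀ v ∈ Sf, ∃ x : v.adicCompletion k ⊗[k] L₁, Algebra.norm (v.adicCompletion k ⊗[k] K₁) x =
      (1 : v.adicCompletion k) ⊗ₜ[k] b₁ * (tf v ⊗ₜ[k] (1 : K₁) - (1 : v.adicCompletion k) ⊗ₜ[k] algebraMap k K₁ α₁))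
    (hti₁ : ∀ w ∈ Si, ∃ x : w.Completion ⊗[k] L₁, Algebra.norm (w.Completion ⊗[k] K₁) x =
      (1 : w.Completion) ⊗ₜ[k] b₁ * (ti w ⊗ₜ[k] (1 : K₁) - (1 : w.Completion) ⊗ₜ[k] algebraMap k K₁ α₁))
    (Uf : (v : HeightOneSpectrum (𝓞 k)) → Set (v.adicCompletion k))
    (hUf : ∀ v ∈ Sf, IsOpen (Uf v) ∧ tf v ∈ Uf v)
    (Ui : (w : InfinitePlace k) → Set w.Completion) (hUi : ∀ w ∈ Si, IsOpen (Ui w) ∧ ti w ∈ Ui w) :
    ∃ t₀ : k, (∀ v ∈ Sf, algebraMap k (v.adicCompletion k) t₀ ∈ Uf v) ∧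
      (∀ w ∈ Si, algebraMap k w.Completion t₀ ∈ Ui w) ∧
      (∀ W : HeightOneSpectrum (𝓞 K₀), W.valuation K₀ (algebraMap k K₀ t₀ - algebraMap k K₀ α₀) < 1 →
        (∃ v ∈ Sf, W.asIdeal.LiesOver v.asIdeal) ∨ Nonempty (L₀ →ₐ[K₀] W.adicCompletion K₀)) ∧
      ∀ W : HeightOneSpectrum (𝓞 K₁), W.valuation K₁ (algebraMap k K₁ t₀ - algebraMap k K₁ α₁) < 1 →
        (∃ v ∈ Sf, W.asIdeal.LiesOver v.asIdeal) ∨ Nonempty (L₁ →ₐ[K₁] W.adicCompletion K₁) := by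
  classical
  haveI : FiniteDimensional K₁ L₁ := Module.Finite.of_restrictScalars_finite ℚ K₁ L₁
  obtain ⟨bK₀, hbK₀⟩ := exists_basis_one hd₀ hb₀0
  obtain ⟨bK₁, hbK₁⟩ := exists_basis_one hd₁ hb₁0
  let Δ := α₁ - α₀
  have hΔ : Δ ≠ 0 := sub_ne_zero.mpr (Ne.symm hα)
  have hΔ' : ∀ (F : Type u) [Field F] [Algebra k F], algebraMap k F α₁ - algebraMap k F α₀ ≠ 0 := fun F _ _ => by
    rw [← map_sub, _root_.map_ne_zero]; exact hΔ
  have hOf : ∀ v : HeightOneSpectrum (𝓞 k), ∃ O₀ O₁ : Set (v.adicCompletion k), v ∈ Sf → IsOpen O₀ ∧ IsOpen O₁ ∧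
      tf v - algebraMap k _ α₀ ∈ O₀ ∧ tf v - algebraMap k _ α₁ ∈ O₁ ∧ ∀ c₀ ∈ O₀, ∀ c₁ ∈ O₁,
        algebraMap k _ α₀ + (algebraMap k _ α₁ - algebraMap k _ α₀) * c₀ / (c₀ - c₁) ∈ Uf v := fun v => by
    by_cases hv : v ∈ Sf
    · obtain ⟨O₀, O₁, h⟩ := continuousAt_pair (algebraMap k (v.adicCompletion k) α₀) (algebraMap k _ α₁)
        (hΔ' _) (tf v) (hUf v hv).1 (hUf v hv).2
      exact ⟨O₀, O₁, fun _ => h⟩
    · exact ⟨∅, ∅, fun h => absurd h hv⟩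
  choose O₀ O₁ hO using hOf
  have hOi : ∀ w : InfinitePlace k, ∃ P₀ P₁ : Set w.Completion, w ∈ Si → IsOpen P₀ ∧ IsOpen P₁ ∧
      ti w - algebraMap k _ α₀ ∈ P₀ ∧ ti w - algebraMap k _ α₁ ∈ P₁ ∧ ∀ c₀ ∈ P₀, ∀ c₁ ∈ P₁,
        c₀ ≠ c₁ ∧ algebraMap k _ α₀ + (algebraMap k _ α₁ - algebraMap k _ α₀) * c₀ / (c₀ - c₁) ∈ Ui w := fun w => by
    by_cases hw : w ∈ Si
    · obtain ⟨P₀, P₁, h1, h2, h3, h4, h5⟩ := continuousAt_pair (algebraMap k w.Completion α₀) (algebraMap k _ α₁)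
        (hΔ' _) (ti w) (hUi w hw).1 (hUi w hw).2
      obtain ⟨Q₀, Q₁, hQ₀, hQ₁, hm₀, hm₁, hQ⟩ := t2_separation
        (show ti w - algebraMap k _ α₀ ≠ ti w - algebraMap k _ α₁ from fun e =>
          hΔ' w.Completion (sub_eq_zero.mpr (sub_right_injective e).symm))
      exact ⟨P₀ ∩ Q₀, P₁ ∩ Q₁, fun _ => ⟨h1.inter hQ₀, h2.inter hQ₁, ⟨h3, hm₀⟩, ⟨h4, hm₁⟩,
        fun c₀ hc₀ c₁ hc₁ => ⟨fun e => hQ.le_bot ⟨hc₀.2, e ▸ hc₁.2⟩, h5 c₀ hc₀.1 c₁ hc₁.1⟩⟩⟩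
    · exact ⟨∅, ∅, fun h => absurd h hw⟩
  choose P₀ P₁ hP using hOi
  choose un₀ hun₀ using fun W : HeightOneSpectrum (𝓞 K₀) => exists_under (k := k) W
  choose un₁ hun₁ using fun W : HeightOneSpectrum (𝓞 K₁) => exists_under (k := k) W
  let Tk := (SApproxLib.finite_setOf_valuation_ne_one Δ hΔ).toFinset.filter (fun v => v ∉ Sf)
  have hTk : ∀ v, v ∉ Sf → v ∉ Tk → v.valuation k Δ = 1 := fun v hv hT => by
    by_contra h
    exact hT (Finset.mem_filter.mpr ⟨(Set.Finite.mem_toFinset _).mpr h, hv⟩)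
  obtain ⟨v₀, hv₀, hsp₀, hsp₁⟩ := hsplit (Sf ∪ Tk)
  rw [Finset.mem_union, not_or] at hv₀
  let T₀ := (finite_over (K := K₀) Tk).toFinset
  let T₁ := (finite_over (K := K₁) Tk).toFinset
  have hNex : ∀ {K : Type u} [Field K] [NumberField K] [Algebra k K] (W : HeightOneSpectrum (𝓞 K)),
      ∃ N : ℕ, 1 ≤ N ∧ exp (-(N : ℤ)) ≤ W.valuation K (algebraMap k K Δ) := by
    intro K _ _ _ W
    obtain ⟨N, hN⟩ := SApproxLib.exists_exp_lt ((Valuation.ne_zero_iff (W.valuation K)).mpr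
      ((_root_.map_ne_zero (algebraMap k K)).mpr hΔ))
    exact ⟨max 1 N, le_max_left _ _, (exp_le_exp.mpr (by omega)).trans hN.le⟩
  choose N₀ hN₀ hN₀' using fun W : HeightOneSpectrum (𝓞 K₀) => hNex W
  choose N₁ hN₁ hN₁' using fun W : HeightOneSpectrum (𝓞 K₁) => hNex W
  have hTS₀ : ∀ W ∈ T₀, ∀ v ∈ Sf, ¬ W.asIdeal.LiesOver v.asIdeal := fun W hW => by
    obtain ⟨v, hv, h⟩ := (Set.Finite.mem_toFinset _).mp hW
    exact notMem_of_over h (Finset.mem_filter.mp hv).2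
  have hTS₁ : ∀ W ∈ T₁, ∀ v ∈ Sf, ¬ W.asIdeal.LiesOver v.asIdeal := fun W hW => by
    obtain ⟨v, hv, h⟩ := (Set.Finite.mem_toFinset _).mp hW
    exact notMem_of_over h (Finset.mem_filter.mp hv).2
  have hz₀ : ∀ W : HeightOneSpectrum (𝓞 K₀), ∃ z : L₀, W ∈ T₀ →
      W.valuation K₀ (Algebra.norm K₀ z - b₀) ≤ exp (-(N₀ W : ℤ)) := fun W => by
    by_cases hW : W ∈ T₀
    · obtain ⟨z, hz⟩ := exists_target hram₀ hb₀ W (hTS₀ W hW) (N₀ W)
      exact ⟨z, fun _ => hz⟩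
    · exact ⟨0, fun h => absurd h hW⟩
  have hz₁ : ∀ W : HeightOneSpectrum (𝓞 K₁), ∃ z : L₁, W ∈ T₁ →
      W.valuation K₁ (Algebra.norm K₁ z - b₁) ≤ exp (-(N₁ W : ℤ)) := fun W => by
    by_cases hW : W ∈ T₁
    · obtain ⟨z, hz⟩ := exists_target hram₁ hb₁ W (hTS₁ W hW) (N₁ W)
      exact ⟨z, fun _ => hz⟩
    · exact ⟨0, fun h => absurd h hW⟩
  choose zT₀ hzT₀ using hz₀
  choose zT₁ hzT₁ using hz₁
  obtain ⟨W₀, hW₀⟩ := exists_over (K := K₀) v₀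
  obtain ⟨W₁, hW₁⟩ := exists_over (K := K₁) v₀
  have hW₀T : W₀ ∉ T₀ := fun h => by
    obtain ⟨v, hv, h'⟩ := (Set.Finite.mem_toFinset _).mp h
    exact hv₀.2 (under_unique hW₀ h' ▸ hv)
  have hW₁T : W₁ ∉ T₁ := fun h => by
    obtain ⟨v, hv, h'⟩ := (Set.Finite.mem_toFinset _).mp h
    exact hv₀.2 (under_unique hW₁ h' ▸ hv)
  -- the first point
  let Af : (v : HeightOneSpectrum (𝓞 k)) → Set (Fin 1 → v.adicCompletion k) := fun v => (fun c => c 0) ⁻¹' O₀ v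
  let Ai : (w : InfinitePlace k) → Set (Fin 1 → w.Completion) := fun w =>
    if w ∈ Si then (fun c => c 0) ⁻¹' P₀ w else Set.univ
  have hAi : ∀ w, IsOpen (Ai w) := fun w => by
    by_cases hw : w ∈ Si
    · simp only [Ai, hw, if_true]; exact (hP w hw).1.preimage (continuous_apply 0)
    · simp only [Ai, hw, if_false, isOpen_univ]
  obtain ⟨z₀, hz₀f, hz₀i⟩ := exists_global_norm bK₀ Sf Af (fun v hv => ⟨(hO v hv).1.preimage (continuous_apply 0), by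
      obtain ⟨x, hx⟩ := htf₀ v hv
      refine ⟨x, ?_⟩
      show _ ∈ O₀ v
      beta_reduce
      rw [hx, repr_target_one hbK₀]
      exact (hO v hv).2.2.1⟩) Ai (fun w => ⟨hAi w, by
      by_cases hw : w ∈ Si
      · obtain ⟨x, hx⟩ := hti₀ w hw
        refine ⟨x, ?_⟩
        simp only [Ai, hw, if_true, Set.mem_preimage]
        rw [hx, repr_target_one hbK₀]
        exact (hP w hw).2.2.1
      · exact ⟨1, by simp only [Ai, hw, if_false, Set.mem_univ]⟩⟩)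
  obtain ⟨u₀, -, hu₀f, hu₀i, hu₀T, hu₀⟩ := exists_near_over bK₀ z₀ Sf Af
    (fun v hv => ⟨(hO v hv).1.preimage (continuous_apply 0), hz₀f v hv⟩) Ai
    (fun w => ⟨hAi w, hz₀i w⟩) T₀ hTS₀ zT₀ N₀ W₀ (notMem_of_over hW₀ hv₀.1) hW₀T
  let c₀ := bK₀.repr u₀ 0
  -- the second point, kept away from the first
  let Bf : (v : HeightOneSpectrum (𝓞 k)) → Set (Fin 1 → v.adicCompletion k) := fun v => (fun c => c 0) ⁻¹' O₁ v
  let Bi : (w : InfinitePlace k) → Set (Fin 1 → w.Completion) := fun w =>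
    if w ∈ Si then (fun c => c 0) ⁻¹' P₁ w else {c | c 0 ≠ algebraMap k _ c₀}
  have hBi : ∀ w, IsOpen (Bi w) := fun w => by
    by_cases hw : w ∈ Si
    · simp only [Bi, hw, if_true]; exact (hP w hw).2.1.preimage (continuous_apply 0)
    · simp only [Bi, hw, if_false]; exact isOpen_ne.preimage (continuous_apply 0)
  obtain ⟨zg, hzg⟩ : ∃ z : L₁, bK₁.repr (Algebra.norm K₁ z) 0 ≠ c₀ := by
    by_contra hc
    push Not at hc
    have h1 := hc 1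
    have h2 := hc ((2 : ℕ) : L₁)
    rw [map_one] at h1
    rw [← map_natCast (algebraMap K₁ L₁), Algebra.norm_algebraMap] at h2
    have e : ((2 : ℕ) : K₁) ^ Module.finrank K₁ L₁ = (1 : K₁) := by
      rw [eq_repr_smul hbK₁ (((2 : ℕ) : K₁) ^ Module.finrank K₁ L₁), h2]
      conv_rhs => rw [eq_repr_smul hbK₁ (1 : K₁), h1]
    have e' : (2 : ℕ) ^ Module.finrank K₁ L₁ = 1 := by exact_mod_cast e
    rw [Nat.pow_eq_one] at e'
    rcases e' with e' | e'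
    · omega
    · exact Module.finrank_pos.ne' e'
  obtain ⟨z₁, hz₁f, hz₁i⟩ := exists_global_norm bK₁ Sf Bf (fun v hv => ⟨(hO v hv).2.1.preimage (continuous_apply 0), by
      obtain ⟨x, hx⟩ := htf₁ v hv
      refine ⟨x, ?_⟩
      show _ ∈ O₁ v
      beta_reduce
      rw [hx, repr_target_one hbK₁]
      exact (hO v hv).2.2.2.1⟩) Bi (fun w => ⟨hBi w, by
      by_cases hw : w ∈ Si
      · obtain ⟨x, hx⟩ := hti₁ w hw
        refine ⟨x, ?_⟩
        simp only [Bi, hw, if_true, Set.mem_preimage]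
        rw [hx, repr_target_one hbK₁]
        exact (hP w hw).2.2.2.1
      · obtain ⟨x, hx⟩ := exists_witness_one_tmul (k := k) (K := K₁) w.Completion zg
        refine ⟨x, ?_⟩
        simp only [Bi, hw, if_false, Set.mem_ofPred_eq]
        rw [hx, Algebra.TensorProduct.basis_repr_tmul, one_smul, Finsupp.mapRange_apply]
        exact fun e => hzg ((algebraMap k w.Completion).injective e)⟩)
  obtain ⟨u₁, -, hu₁f, hu₁i, hu₁T, hu₁⟩ := exists_near_over bK₁ z₁ Sf Bf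
    (fun v hv => ⟨(hO v hv).2.1.preimage (continuous_apply 0), hz₁f v hv⟩) Bi
    (fun w => ⟨hBi w, hz₁i w⟩) T₁ hTS₁ zT₁ N₁ W₁ (notMem_of_over hW₁ hv₀.1) hW₁T
  let c₁ := bK₁.repr u₁ 0
  have he₀ : u₀ = algebraMap k K₀ c₀ * b₀ := by rw [← Algebra.smul_def]; exact eq_repr_smul hbK₀ u₀
  have he₁ : u₁ = algebraMap k K₁ c₁ * b₁ := by rw [← Algebra.smul_def]; exact eq_repr_smul hbK₁ u₁
  have hne : c₀ - c₁ ≠ 0 := by
    obtain ⟨w⟩ := (inferInstance : Nonempty (InfinitePlace k))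
    intro h0
    have heq : c₀ = c₁ := sub_eq_zero.mp h0
    by_cases hw : w ∈ Si
    · have h₀ := hu₀i w
      have h₁ := hu₁i w
      simp only [Ai, hw, if_true, Set.mem_preimage] at h₀
      simp only [Bi, hw, if_true, Set.mem_preimage] at h₁
      exact ((hP w hw).2.2.2.2 _ h₀ _ h₁).1 (congrArg (algebraMap k w.Completion) heq)
    · have h₁ := hu₁i w
      simp only [Bi, hw, if_false, Set.mem_ofPred_eq] at h₁
      exact h₁ (congrArg (algebraMap k w.Completion) heq.symm)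
  -- congruences at the exceptional places
  have hexc : ∀ v ∈ Tk, v.valuation k (c₀ - c₁) ≤ v.valuation k Δ ∧
      v.valuation k c₀ = 1 ∧ v.valuation k c₁ = 1 := by
    intro v hv
    have hvS : v ∉ Sf := (Finset.mem_filter.mp hv).2
    obtain ⟨V₀, hV₀⟩ := exists_over (K := K₀) v
    obtain ⟨V₁, hV₁⟩ := exists_over (K := K₁) v
    have hm₀ : V₀ ∈ T₀ := (Set.Finite.mem_toFinset _).mpr ⟨v, hv, hV₀⟩
    have hm₁ : V₁ ∈ T₁ := (Set.Finite.mem_toFinset _).mpr ⟨v, hv, hV₁⟩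
    have key : ∀ {K : Type u} [Field K] [NumberField K] [Algebra k K] (V : HeightOneSpectrum (𝓞 K))
        [V.asIdeal.LiesOver v.asIdeal] (b u nz : K) (c : k) (N : ℕ), u = algebraMap k K c * b →
        V.valuation K b = 1 → V.valuation K (u - nz) ≤ exp (-(N : ℤ)) → V.valuation K (nz - b) ≤ exp (-(N : ℤ)) →
        1 ≤ N → exp (-(N : ℤ)) ≤ V.valuation K (algebraMap k K Δ) →
        v.valuation k (c - 1) ≤ v.valuation k Δ ∧ v.valuation k c = 1 := by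
      intro K _ _ _ V _ b u nz c N hu hb h1 h2 hN hN'
      have h3 : V.valuation K (algebraMap k K (c - 1)) ≤ exp (-(N : ℤ)) := by
        have e : algebraMap k K (c - 1) * b = (u - nz) + (nz - b) := by rw [hu, map_sub, map_one]; ring
        have h := congrArg (V.valuation K) e
        rw [map_mul, hb, mul_one] at h
        rw [h]
        exact (Valuation.map_add _ _ _).trans (max_le h1 h2)
      have h4 : v.valuation k (c - 1) < 1 := (over_lt_one_iff v V _).mp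
        (h3.trans_lt ((exp_lt_exp.mpr (by omega)).trans_eq exp_zero))
      refine ⟨?_, ?_⟩
      · obtain ⟨e, he, h⟩ := valuation_over_eq v V ((c - 1) / Δ)
        have h5 : V.valuation K (algebraMap k K ((c - 1) / Δ)) ≤ 1 := by
          rw [map_div₀, map_div₀, div_le_one₀ (zero_lt_iff.mpr ((Valuation.ne_zero_iff _).mpr
            ((_root_.map_ne_zero _).mpr hΔ)))]
          exact h3.trans hN'
        have h6 := (over_le_one_iff v V _).mp h5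
        rwa [map_div₀, div_le_one₀ (zero_lt_iff.mpr ((Valuation.ne_zero_iff _).mpr hΔ))] at h6
      · rw [← sub_add_cancel c 1, Valuation.map_add_eq_of_lt_right _ (by rw [map_one]; exact h4), map_one]
    haveI := hV₀
    haveI := hV₁
    obtain ⟨ha₀, hc₀⟩ := key V₀ b₀ u₀ _ c₀ (N₀ V₀) he₀ (valuation_b hb₀ (hTS₀ V₀ hm₀)) (hu₀T V₀ hm₀)
      (hzT₀ V₀ hm₀) (hN₀ V₀) (hN₀' V₀)
    obtain ⟨ha₁, hc₁⟩ := key V₁ b₁ u₁ _ c₁ (N₁ V₁) he₁ (valuation_b hb₁ (hTS₁ V₁ hm₁)) (hu₁T V₁ hm₁)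
      (hzT₁ V₁ hm₁) (hN₁ V₁) (hN₁' V₁)
    refine ⟨?_, hc₀, hc₁⟩
    rw [show c₀ - c₁ = (c₀ - 1) - (c₁ - 1) by ring]
    exact (Valuation.map_sub _ _ _).trans (max_le ha₀ ha₁)
  -- integrality away from the auxiliary place
  have hgen : ∀ v, v ∉ Sf → v ∉ Tk → v ≠ v₀ →
      v.valuation k c₀ ≤ 1 ∧ v.valuation k c₁ ≤ 1 := by
    intro v hv hT hv0
    obtain ⟨V₀, hV₀⟩ := exists_over (K := K₀) v
    obtain ⟨V₁, hV₁⟩ := exists_over (K := K₁) v
    haveI := hV₀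
    haveI := hV₁
    have h₀ := (hu₀ V₀ (notMem_of_over hV₀ hv) (fun h => by
      obtain ⟨v', hv', h'⟩ := (Set.Finite.mem_toFinset _).mp h
      exact hT (under_unique hV₀ h' ▸ hv')) (fun e => hv0 (under_unique hV₀ (e ▸ hW₀)))).1
    have h₁ := (hu₁ V₁ (notMem_of_over hV₁ hv) (fun h => by
      obtain ⟨v', hv', h'⟩ := (Set.Finite.mem_toFinset _).mp h
      exact hT (under_unique hV₁ h' ▸ hv')) (fun e => hv0 (under_unique hV₁ (e ▸ hW₁)))).1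
    rw [he₀, map_mul, valuation_b hb₀ (notMem_of_over hV₀ hv), mul_one, over_le_one_iff v V₀] at h₀
    rw [he₁, map_mul, valuation_b hb₁ (notMem_of_over hV₁ hv), mul_one, over_le_one_iff v V₁] at h₁
    exact ⟨h₀, h₁⟩
  let t := α₀ + Δ * c₀ / (c₀ - c₁)
  have ht₀ : t - α₀ = Δ * c₀ / (c₀ - c₁) := add_sub_cancel_left _ _
  have ht₁ : t - α₁ = Δ * c₁ / (c₀ - c₁) := by
    simp only [t, Δ]
    field_simp
    ring
  refine ⟨t, fun v hv => ?_, fun w hw => ?_, fun W hW => ?_, fun W hW => ?_⟩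
  · have h := (hO v hv).2.2.2.2 _ (hu₀f v hv) _ (hu₁f v hv)
    simp only [t, Δ, map_add, map_div₀, map_mul, map_sub]
    exact h
  · have h₀ := hu₀i w
    have h₁ := hu₁i w
    simp only [Ai, hw, if_true, Set.mem_preimage] at h₀
    simp only [Bi, hw, if_true, Set.mem_preimage] at h₁
    have h := ((hP w hw).2.2.2.2 _ h₀ _ h₁).2
    simp only [t, Δ, map_add, map_div₀, map_mul, map_sub]
    exact h
  · by_cases hS : ∃ v ∈ Sf, W.asIdeal.LiesOver v.asIdeal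
    · exact Or.inl hS
    refine Or.inr ?_
    push Not at hS
    haveI := hun₀ W
    have hv : un₀ W ∉ Sf := fun h => hS _ h (hun₀ W)
    rw [← map_sub, over_lt_one_iff (un₀ W) W, ht₀] at hW
    by_cases h0 : un₀ W = v₀
    · exact hsp₀ W (h0 ▸ hun₀ W)
    by_cases hT : un₀ W ∈ Tk
    · obtain ⟨h1, h2, -⟩ := hexc _ hT
      exfalso
      rw [map_div₀, map_mul, h2, mul_one, div_lt_one₀ (zero_lt_iff.mpr ((Valuation.ne_zero_iff _).mpr hne))] at hW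
      exact not_lt.mpr h1 hW
    obtain ⟨hc₀, hc₁⟩ := hgen _ hv hT h0
    have hWT : W ∉ T₀ := fun h => by
      obtain ⟨v', hv', h'⟩ := (Set.Finite.mem_toFinset _).mp h
      exact hT (under_unique (hun₀ W) h' ▸ hv')
    exact zero_side (c' := c₁) he₀ (valuation_b hb₀ hS) (hTk _ hv hT)
      ((Valuation.map_sub _ _ _).trans (max_le hc₀ hc₁)) hne
      (hu₀ W hS hWT (fun e => h0 (under_unique (hun₀ W) (e ▸ hW₀)))).2 hW
  · by_cases hS : ∃ v ∈ Sf, W.asIdeal.LiesOver v.asIdeal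
    · exact Or.inl hS
    refine Or.inr ?_
    push Not at hS
    haveI := hun₁ W
    have hv : un₁ W ∉ Sf := fun h => hS _ h (hun₁ W)
    rw [← map_sub, over_lt_one_iff (un₁ W) W, ht₁] at hW
    by_cases h0 : un₁ W = v₀
    · exact hsp₁ W (h0 ▸ hun₁ W)
    by_cases hT : un₁ W ∈ Tk
    · obtain ⟨h1, -, h2⟩ := hexc _ hT
      exfalso
      rw [map_div₀, map_mul, h2, mul_one, div_lt_one₀ (zero_lt_iff.mpr ((Valuation.ne_zero_iff _).mpr hne))] at hW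
      exact not_lt.mpr h1 hW
    obtain ⟨hc₀, hc₁⟩ := hgen _ hv hT h0
    have hWT : W ∉ T₁ := fun h => by
      obtain ⟨v', hv', h'⟩ := (Set.Finite.mem_toFinset _).mp h
      exact hT (under_unique (hun₁ W) h' ▸ hv')
    have hW' : (un₁ W).valuation k (Δ * c₁ / (c₁ - c₀)) < 1 := by
      rw [show Δ * c₁ / (c₁ - c₀) = -(Δ * c₁ / (c₀ - c₁)) by rw [← neg_sub c₀ c₁, div_neg], Valuation.map_neg]
      exact hW
    exact zero_side (c' := c₀) he₁ (valuation_b hb₁ hS) (hTk _ hv hT)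
      ((Valuation.map_sub _ _ _).trans (max_le hc₁ hc₀)) (fun e => hne (by rw [← neg_sub, e, neg_zero]))
      (hu₁ W hS hWT (fun e => h0 (under_unique (hun₁ W) (e ▸ hW₁)))).2 hW'

end NFFibLib
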