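import Groth.Agent.NFFibLib.UnramNorm
import Mathlib.RingTheory.Frobenius
import Mathlib.NumberTheory.RamificationInertia.Galois
import Mathlib.FieldTheory.Galois.IsGaloisGroup

/-!
# Subfields fixed by a Frobenius element at an unramified place
-/

set_option autoImplicit false
set_option linter.style.haveILetI false
set_option maxHeartbeats 1000000

universe u

open NumberField IsDedekindDomain WithZero Polynomial
open scoped Pointwise

namespace NFFibLib

variable {K N : Type u} [Field K] [NumberField K] [Field N] [NumberField N] [Algebra K N] [IsGalois K N]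

/-- An element fixed by a Frobenius element is congruent to an element below. -/
theorem exists_residue_of_fixed (w : HeightOneSpectrum (𝓞 K)) (Q : Ideal (𝓞 N)) [Q.IsMaximal]
    [Q.LiesOver w.asIdeal] (σ : N ≃ₐ[K] N) (hσ : IsArithFrobAt (𝓞 K) σ Q) {z : 𝓞 N} (hz : σ • z - z ∈ Q) :
    ∃ a : 𝓞 K, z - algebraMap (𝓞 K) (𝓞 N) a ∈ Q := by
  classical
  haveI := w.isMaximal
  haveI : Finite (𝓞 K ⧸ w.asIdeal) := Ideal.finiteQuotientOfFreeOfNeBot _ w.ne_bot
  letI := Fintype.ofFinite (𝓞 K ⧸ w.asIdeal)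
  letI := Ideal.Quotient.field w.asIdeal
  letI := Ideal.Quotient.field Q
  have h := hσ z
  rw [← Q.over_def w.asIdeal, Nat.card_eq_fintype_card, MulSemiringAction.toAlgHom_apply] at h
  have hz' : z - z ^ Fintype.card (𝓞 K ⧸ w.asIdeal) ∈ Q := by simpa using Q.sub_mem h hz
  have hroot : (Ideal.Quotient.mk Q z) ^ Fintype.card (𝓞 K ⧸ w.asIdeal) = Ideal.Quotient.mk Q z := by
    rw [← map_pow]
    exact (Ideal.Quotient.eq.mpr hz').symm
  set q := Fintype.card (𝓞 K ⧸ w.asIdeal)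
  have hq : 1 < q := Fintype.one_lt_card
  let f : (𝓞 K ⧸ w.asIdeal) →+* (𝓞 N ⧸ Q) := algebraMap _ _
  by_contra hne
  push Not at hne
  have hX : (X ^ q - X : (𝓞 N ⧸ Q)[X]) ≠ 0 := FiniteField.X_pow_card_sub_X_ne_zero _ hq
  have hsub : insert (Ideal.Quotient.mk Q z) (Finset.univ.image f) ⊆ (X ^ q - X : (𝓞 N ⧸ Q)[X]).roots.toFinset := by
    intro x hx
    rw [Multiset.mem_toFinset, mem_roots hX, IsRoot, eval_sub, eval_pow, eval_X, sub_eq_zero]
    rcases Finset.mem_insert.mp hx with rfl | hx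
    · exact hroot
    · obtain ⟨c, -, rfl⟩ := Finset.mem_image.mp hx
      rw [← map_pow, FiniteField.pow_card]
  have hnot : Ideal.Quotient.mk Q z ∉ Finset.univ.image f := by
    intro hmem
    obtain ⟨c, -, hc⟩ := Finset.mem_image.mp hmem
    obtain ⟨a, rfl⟩ := Ideal.Quotient.mk_surjective c
    exact hne a (Ideal.Quotient.eq.mp hc.symm)
  have h1 := Finset.card_le_card hsub
  rw [Finset.card_insert_of_notMem hnot, Finset.card_image_of_injective _ f.injective, Finset.card_univ] at h1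
  have h2 := (Multiset.toFinset_card_le _).trans (card_roots' (X ^ q - X : (𝓞 N ⧸ Q)[X]))
  rw [FiniteField.X_pow_card_sub_X_natDegree_eq _ hq] at h2
  omega

/-- An element fixed by a Frobenius element is a limit of elements below, at an unramified place. -/
theorem exists_approx_of_fixed (w : HeightOneSpectrum (𝓞 K)) (Q : Ideal (𝓞 N)) [Q.IsMaximal]
    [Q.LiesOver w.asIdeal] (he : Q.ramificationIdx (𝓞 K) = 1) (σ : N ≃ₐ[K] N) (hσ : IsArithFrobAt (𝓞 K) σ Q)
    {z : 𝓞 N} (hz : σ • z = z) (n : ℕ) : ∃ a : 𝓞 K, z - algebraMap (𝓞 K) (𝓞 N) a ∈ Q ^ n := by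
  have hQ0 : Q ≠ ⊥ := Ideal.ne_bot_of_liesOver_of_ne_bot w.ne_bot Q
  obtain ⟨π, hπ⟩ := w.intValuation_exists_uniformizer
  let W : HeightOneSpectrum (𝓞 N) := ⟨Q, inferInstance, hQ0⟩
  have hπQ : ∀ m : ℕ, algebraMap (𝓞 K) (𝓞 N) (π ^ m) ∈ Q ^ m ∧ algebraMap (𝓞 K) (𝓞 N) (π ^ m) ∉ Q ^ (m + 1) := by
    intro m
    haveI : W.asIdeal.LiesOver w.asIdeal := ‹_›
    have hv : W.intValuation (algebraMap (𝓞 K) (𝓞 N) (π ^ m)) = exp (-(m : ℤ)) := by
      rw [← HeightOneSpectrum.valuation_of_algebraMap (K := N)]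
      show W.valuation N (algebraMap (𝓞 N) N (algebraMap (𝓞 K) (𝓞 N) (π ^ m))) = _
      rw [← IsScalarTower.algebraMap_apply,
        IsScalarTower.algebraMap_apply (𝓞 K) K N, ← HeightOneSpectrum.valuation_liesOver N w W,
        HeightOneSpectrum.valuation_of_algebraMap, map_pow, hπ,
        Ideal.ramificationIdx'_eq_ramificationIdx w.asIdeal W.asIdeal w.ne_bot, show W.asIdeal = Q from rfl, he,
        pow_one, ← exp_nsmul, nsmul_eq_mul, mul_neg, mul_one]
    refine ⟨(W.intValuation_le_pow_iff_mem _ m).mp hv.le, fun h => ?_⟩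
    have h' := (W.intValuation_le_pow_iff_mem _ (m + 1)).mpr h
    rw [hv, exp_le_exp] at h'
    omega
  have hstab : ∀ m : ℕ, ∀ x : 𝓞 N, x ∈ Q ^ m → σ • x ∈ Q ^ m := by
    intro m x hx
    have hs : σ • Q = Q := hσ.mem_stabilizer
    have h1 : σ • (Q ^ m) = Q ^ m := by rw [smul_pow', hs]
    rw [← h1]
    exact Ideal.smul_mem_pointwise_smul σ x _ hx
  induction n with
  | zero => exact ⟨0, by simp⟩
  | succ m ih =>
    obtain ⟨a, ha⟩ := ih
    obtain ⟨d, e, he', hde⟩ := Ideal.exists_mul_add_mem_pow_succ hQ0 _ _ (hπQ m).1 (hπQ m).2 ha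
    have hfix : ∀ c : 𝓞 K, σ • algebraMap (𝓞 K) (𝓞 N) c = algebraMap (𝓞 K) (𝓞 N) c := fun c => smul_algebraMap σ c
    have hd : σ • d - d ∈ Q := by
      refine Ideal.mul_add_mem_pow_succ_unique hQ0 _ _ _ _ _ (hπQ m).2 (hstab _ _ he') he' ?_
      have e1 : algebraMap (𝓞 K) (𝓞 N) (π ^ m) * (σ • d) + σ • e = z - algebraMap (𝓞 K) (𝓞 N) a := by
        rw [← hfix (π ^ m), ← smul_mul', ← smul_add, hde, smul_sub, hz, hfix]
      rw [e1, hde, sub_self]
      exact zero_mem _
    obtain ⟨b, hb⟩ := exists_residue_of_fixed w Q σ hσ hd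
    refine ⟨a + π ^ m * b, ?_⟩
    rw [show z - algebraMap (𝓞 K) (𝓞 N) (a + π ^ m * b) =
        algebraMap (𝓞 K) (𝓞 N) (π ^ m) * (d - algebraMap (𝓞 K) (𝓞 N) b) + e by
      rw [map_add, map_mul, mul_sub, ← sub_sub, ← hde]; ring]
    refine Ideal.add_mem _ ?_ he'
    rw [pow_succ (Q : Ideal (𝓞 N)) m]
    exact Ideal.mul_mem_mul (hπQ m).1 hb

/-- A field whose image is fixed by a Frobenius element at an unramified place embeds in the completion. -/
theorem nonempty_algHom_of_frob {L : Type u} [Field L] [NumberField L] [Algebra K L] (φ : L →ₐ[K] N)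
    (w : HeightOneSpectrum (𝓞 K)) (Q : Ideal (𝓞 N)) [Q.IsMaximal] [Q.LiesOver w.asIdeal]
    (he : Q.ramificationIdx (𝓞 K) = 1) (σ : N ≃ₐ[K] N) (hσ : IsArithFrobAt (𝓞 K) σ Q)
    (hfix : ∀ x, σ (φ x) = φ x) : Nonempty (L →ₐ[K] w.adicCompletion K) := by
  haveI : FiniteDimensional K L := Module.Finite.of_restrictScalars_finite ℚ K L
  obtain ⟨θ, hθ, hgen⟩ := exists_primitive_integral (k := K) (L := L)
  let θ' : 𝓞 L := ⟨θ, hθ⟩
  let g₀ : (𝓞 K)[X] := minpoly (𝓞 K) θ'
  have hint : IsIntegral (𝓞 K) θ' := Algebra.IsIntegral.isIntegral θ'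
  have hg : g₀.map (algebraMap (𝓞 K) K) = minpoly K θ := (minpoly.isIntegrallyClosed_eq_field_fractions K L hint).symm
  let z : 𝓞 N := ⟨φ θ, hθ.map φ⟩
  have hz : σ • z = z := RingOfIntegers.ext (hfix θ)
  have hz0 : aeval z g₀ = 0 := by
    refine RingOfIntegers.coe_injective ?_
    rw [map_zero, ← aeval_algebraMap_apply, ← aeval_map_algebraMap K, hg]
    show aeval (φ θ) (minpoly K θ) = 0
    rw [aeval_algHom_apply, minpoly.aeval, map_zero]
  have hQ0 : Q ≠ ⊥ := Ideal.ne_bot_of_liesOver_of_ne_bot w.ne_bot Q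
  let W : HeightOneSpectrum (𝓞 N) := ⟨Q, inferInstance, hQ0⟩
  haveI : W.asIdeal.LiesOver w.asIdeal := ‹_›
  let G : w.adicCompletion K → w.adicCompletion K := fun x => aeval x (minpoly K θ)
  have hG : Continuous G := Polynomial.continuous_aeval _
  have hmem : (0 : w.adicCompletion K) ∈ closure (G '' {x | Valued.v x ≤ 1}) := by
    refine mem_closure_iff_nhds.mpr fun V hV => ?_
    obtain ⟨n, hn⟩ := exists_exp_subset_nhds w hV
    obtain ⟨a, ha⟩ := exists_approx_of_fixed w Q he σ hσ hz n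
    have hev : algebraMap (𝓞 K) (𝓞 N) (g₀.eval a) ∈ Q ^ n := by
      obtain ⟨c, hc⟩ := sub_dvd_eval_sub z (algebraMap (𝓞 K) (𝓞 N) a) (g₀.map (algebraMap (𝓞 K) (𝓞 N)))
      rw [eval_map_algebraMap, eval_map_algebraMap, hz0, zero_sub, aeval_algebraMap_apply, coe_aeval_eq_eval] at hc
      rw [← Ideal.neg_mem_iff, hc]
      exact Ideal.mul_mem_right _ _ ha
    have hv : w.valuation K (algebraMap (𝓞 K) K (g₀.eval a)) ≤ exp (-(n : ℤ)) := by
      have h := (W.intValuation_le_pow_iff_mem _ n).mpr hev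
      rw [← HeightOneSpectrum.valuation_of_algebraMap (K := N)] at h
      change W.valuation N (algebraMap (𝓞 N) N (algebraMap (𝓞 K) (𝓞 N) (g₀.eval a))) ≤ _ at h
      rw [← IsScalarTower.algebraMap_apply,
        IsScalarTower.algebraMap_apply (𝓞 K) K N, ← HeightOneSpectrum.valuation_liesOver N w W,
        Ideal.ramificationIdx'_eq_ramificationIdx w.asIdeal W.asIdeal w.ne_bot, show W.asIdeal = Q from rfl, he,
        pow_one] at h
      exact h
    refine ⟨G (algebraMap K _ (algebraMap (𝓞 K) K a)), hn _ ?_, _, ?_, rfl⟩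
    · simp only [G, sub_zero]
      rw [aeval_algebraMap_apply, coe_aeval_eq_eval, ← hg, eval_map, eval₂_at_apply, valued_algebraMap]
      exact hv
    · simp only [Set.mem_ofPred_eq, valued_algebraMap]
      exact w.valuation_le_one a
  rw [((isCompact_ball_one w).image hG).isClosed.closure_eq] at hmem
  obtain ⟨r, -, hr⟩ := hmem
  exact nonempty_algHom_of_root w hgen hr

/-- A place which is unramified in all conjugates of `L` generating `N` is unramified in `N`. -/
theorem ramificationIdx_eq_one_of_conjugates {L : Type u} [Field L] [NumberField L] [Algebra K L]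
    (hgen : ∀ τ : N ≃ₐ[K] N, (∀ φ : L →ₐ[K] N, τ.toAlgHom.comp φ = φ) → τ = 1)
    (w : HeightOneSpectrum (𝓞 K))
    (hw : ∀ P : Ideal (𝓞 L), P.IsPrime → P.LiesOver w.asIdeal → P.ramificationIdx (𝓞 K) = 1)
    (Q : Ideal (𝓞 N)) [Q.IsMaximal] [Q.LiesOver w.asIdeal] : Q.ramificationIdx (𝓞 K) = 1 := by
  classical
  haveI : FiniteDimensional K N := Module.Finite.of_restrictScalars_finite ℚ K N
  haveI := w.isMaximal
  have hcard : Nat.card (Q.inertia (N ≃ₐ[K] N)) = Q.ramificationIdx (𝓞 K) := by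
    rw [Ideal.card_inertia_eq_ramificationIdxIn w.asIdeal Q,
      Ideal.ramificationIdxIn_eq_ramificationIdx w.asIdeal Q (N ≃ₐ[K] N)]
  suffices h : ∀ τ ∈ Q.inertia (N ≃ₐ[K] N), τ = 1 by
    rw [← hcard, (Subgroup.eq_bot_iff_forall _).mpr h, Subgroup.card_bot]
  intro τ hτ
  refine hgen τ fun φ => ?_
  letI : Algebra L N := φ.toRingHom.toAlgebra
  haveI : IsScalarTower K L N := IsScalarTower.of_algebraMap_eq fun x => (φ.commutes x).symm
  haveI : IsGalois L N := IsGalois.tower_top_of_isGalois K L N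
  haveI : FiniteDimensional L N := Module.Finite.of_restrictScalars_finite K L N
  let P : Ideal (𝓞 L) := Q.under (𝓞 L)
  haveI : P.IsMaximal := Ideal.IsMaximal.under (𝓞 L) Q
  haveI : Q.LiesOver P := ⟨rfl⟩
  haveI : P.LiesOver w.asIdeal := Ideal.LiesOver.tower_bot Q P w.asIdeal
  have hP0 : P ≠ ⊥ := Ideal.ne_bot_of_liesOver_of_ne_bot w.ne_bot P
  have hcard' : Nat.card (Q.inertia (N ≃ₐ[L] N)) = Q.ramificationIdx (𝓞 L) := by
    rw [Ideal.card_inertia_eq_ramificationIdxIn P Q, Ideal.ramificationIdxIn_eq_ramificationIdx P Q (N ≃ₐ[L] N)]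
  have heq : Q.ramificationIdx (𝓞 K) = Q.ramificationIdx (𝓞 L) := by
    rw [Ideal.ramificationIdx_tower P Q, hw P inferInstance inferInstance, one_mul]
  let r : (N ≃ₐ[L] N) → (N ≃ₐ[K] N) := fun g => g.restrictScalars K
  have hr : Function.Injective r := AlgEquiv.restrictScalars_injective K
  let f : Q.inertia (N ≃ₐ[L] N) → Q.inertia (N ≃ₐ[K] N) := fun g => ⟨r g.1, fun x => g.2 x⟩
  have hf : Function.Injective f := fun g g' h => Subtype.ext (hr (congrArg Subtype.val h))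
  obtain ⟨g, hg⟩ := (hf.bijective_of_nat_card_le (by rw [hcard, hcard', heq])).2 ⟨τ, hτ⟩
  refine AlgHom.ext fun x => ?_
  rw [← show r g.1 = τ from congrArg Subtype.val hg]
  exact g.1.commutes x

end NFFibLib
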