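import Mathlib.NumberTheory.NumberField.Completion.FinitePlace
import Mathlib.RingTheory.AdicCompletion.Basic
import Mathlib.RingTheory.Henselian
import Mathlib.RingTheory.Filtration
import Mathlib.RingTheory.PowerBasis
import Groth.Agent.SApproxLib.Basic

/-!
# Roots in completions of number fields
-/

set_option autoImplicit false
set_option linter.style.haveILetI false

universe u

open NumberField IsDedekindDomain WithZero Polynomial Filter Topology

namespace NFFibLib

variable {k : Type u} [Field k] [NumberField k] (v : HeightOneSpectrum (𝓞 k))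

local notation "O" => v.adicCompletionIntegers k
local notation "M" => IsLocalRing.maximalIdeal (v.adicCompletionIntegers k)

theorem valued_algebraMap (x : k) : Valued.v (algebraMap k (v.adicCompletion k) x) = v.valuation k x :=
  HeightOneSpectrum.valuedAdicCompletion_eq_valuation' v x

theorem exists_val_eq (n : ℤ) : ∃ a : v.adicCompletion k, Valued.v a = exp n :=
  HeightOneSpectrum.valuedAdicCompletion_surjective k v _

theorem mem_maximalIdeal_iff (x : O) : x ∈ M ↔ Valued.v (x : v.adicCompletion k) < 1 :=
  Valuation.mem_maximalIdeal_iff _ _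

theorem mem_pow_iff (m : ℕ) (x : O) : x ∈ M ^ m ↔ Valued.v (x : v.adicCompletion k) ≤ exp (-(m : ℤ)) := by
  constructor
  · intro h
    induction m generalizing x with
    | zero =>
      rw [Nat.cast_zero, neg_zero, exp_zero]
      exact x.2
    | succ m ih =>
      rw [pow_succ] at h
      induction h using Submodule.mul_induction_on' with
      | mem_mul_mem a ha b hb =>
        have hb' : Valued.v (b : v.adicCompletion k) ≤ exp (-1 : ℤ) := by
          have h1 := (mem_maximalIdeal_iff v b).mp hb
          rcases eq_or_ne (Valued.v (b : v.adicCompletion k)) 0 with h0 | h0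
          · rw [h0]; exact zero_le
          · rw [← log_le_iff_le_exp h0]
            have h2 := (log_lt_iff_lt_exp h0 (a := (0 : ℤ))).mpr (by rwa [exp_zero])
            omega
        rw [show ((a * b : O) : v.adicCompletion k) = (a : v.adicCompletion k) * b from rfl, map_mul,
          show (-((m + 1 : ℕ) : ℤ)) = -(m : ℤ) + (-1) by push_cast; ring, exp_add]
        exact mul_le_mul' (ih a ha) hb'
      | add a _ b _ ha hb =>
        exact (Valuation.map_add _ _ _).trans (max_le ha hb)
  · intro h
    obtain ⟨π, hπ⟩ := exists_val_eq v (-1)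
    have hπ0 : π ≠ 0 := fun h0 => exp_ne_zero (a := (-1 : ℤ)) (by rw [← hπ, h0, map_zero])
    have hπm : Valued.v (π ^ m) = exp (-(m : ℤ)) := by
      rw [map_pow, hπ, ← exp_nsmul, nsmul_eq_mul]
      congr 1
      ring
    have hπO : π ∈ v.adicCompletionIntegers k := by
      rw [HeightOneSpectrum.mem_adicCompletionIntegers, hπ]
      exact (exp_le_exp.mpr (by norm_num)).trans_eq exp_zero
    have hy : (x : v.adicCompletion k) / π ^ m ∈ v.adicCompletionIntegers k := by
      rw [HeightOneSpectrum.mem_adicCompletionIntegers, map_div₀, hπm,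
        div_le_iff₀ (zero_lt_iff.mpr exp_ne_zero), one_mul]
      exact h
    have hx : x = ⟨π, hπO⟩ ^ m * ⟨_, hy⟩ := Subtype.ext (by
      change (x : v.adicCompletion k) = π ^ m * ((x : v.adicCompletion k) / π ^ m)
      field_simp)
    rw [hx]
    refine Ideal.mul_mem_right _ _ (Ideal.pow_mem_pow ?_ m)
    rw [mem_maximalIdeal_iff]
    change Valued.v π < 1
    rw [hπ]
    exact (exp_lt_exp.mpr (by norm_num : (-1 : ℤ) < 0)).trans_eq exp_zero

theorem isClosed_ball_exp (n : ℤ) : IsClosed {x : v.adicCompletion k | Valued.v x ≤ exp n} := by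
  obtain ⟨a, ha⟩ := exists_val_eq v n
  have ha0 : a ≠ 0 := fun h0 => exp_ne_zero (a := n) (by rw [← ha, h0, map_zero])
  have : {x : v.adicCompletion k | Valued.v x ≤ exp n} =
      (fun x => x * a⁻¹) ⁻¹' ((Valued.v : Valuation (v.adicCompletion k) ℤᵐ⁰).valuationSubring : Set (v.adicCompletion k)) := by
    ext x
    simp only [Set.mem_ofPred_eq, Set.mem_preimage, SetLike.mem_coe, Valuation.mem_valuationSubring_iff, map_mul,
      map_inv₀, ha]
    rw [mul_inv_le_iff₀ (zero_lt_iff.mpr exp_ne_zero), one_mul]
  rw [this]
  exact (Valued.isClosed_valuationSubring _).preimage (continuous_id.mul continuous_const)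

theorem cauchySeq_of_le {g : ℕ → v.adicCompletion k}
    (hg : ∀ m n, m ≤ n → Valued.v (g m - g n) ≤ exp (-(m : ℤ))) : CauchySeq g := by
  refine Valued.cauchy_iff.mpr ⟨inferInstance, fun γ => ?_⟩
  obtain ⟨N, hN⟩ := SApproxLib.exists_exp_lt (γ := MonoidWithZeroHom.ValueGroup₀.embedding γ.val) (by simp)
  refine ⟨g '' Set.Ici N, Filter.image_mem_map (Ici_mem_atTop N), ?_⟩
  rintro _ ⟨a, ha, rfl⟩ _ ⟨b, hb, rfl⟩
  rw [Valuation.restrict_lt_iff_lt_embedding]
  refine lt_of_le_of_lt ?_ hN
  have hle : ∀ c : ℕ, N ≤ c → exp (-(c : ℤ)) ≤ exp (-(N : ℤ)) := fun c hc => exp_le_exp.mpr (by omega)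
  rcases le_total a b with hab | hab
  · rw [Valuation.map_sub_swap]
    exact (hg a b hab).trans (hle a ha)
  · exact (hg b a hab).trans (hle b hb)

instance isAdicComplete : IsAdicComplete M O where
  haus' x hx := by
    refine Subtype.ext ?_
    rw [ZeroMemClass.coe_zero]
    refine (Valuation.zero_iff (Valued.v : Valuation (v.adicCompletion k) ℤᵐ⁰)).mp ?_
    by_contra h0
    obtain ⟨N, hN⟩ := SApproxLib.exists_exp_lt h0
    have h := SModEq.zero.mp (hx N)
    rw [smul_eq_mul, Ideal.mul_top, mem_pow_iff] at h
    exact absurd h (not_le.mpr hN)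
  prec' f hf := by
    have hg : ∀ m n, m ≤ n → Valued.v ((f m : v.adicCompletion k) - f n) ≤ exp (-(m : ℤ)) := by
      intro m n hmn
      have h := SModEq.sub_mem.mp (hf hmn)
      rw [smul_eq_mul, Ideal.mul_top, mem_pow_iff] at h
      simpa only [AddSubgroupClass.coe_sub] using h
    obtain ⟨L, hL⟩ := cauchySeq_tendsto_of_complete (cauchySeq_of_le v hg)
    have hball : ∀ m : ℕ, Valued.v ((f m : v.adicCompletion k) - L) ≤ exp (-(m : ℤ)) := by
      intro m
      refine (isClosed_ball_exp v _).mem_of_tendsto (tendsto_const_nhds.sub hL) ?_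
      exact (eventually_ge_atTop m).mono fun n hn => hg m n hn
    have hLO : L ∈ v.adicCompletionIntegers k := by
      have h1 : L = (f 0 : v.adicCompletion k) - ((f 0 : v.adicCompletion k) - L) := by ring
      rw [h1]
      refine sub_mem (f 0).2 ?_
      rw [HeightOneSpectrum.mem_adicCompletionIntegers]
      simpa using hball 0
    refine ⟨⟨L, hLO⟩, fun m => SModEq.sub_mem.mpr ?_⟩
    rw [smul_eq_mul, Ideal.mul_top, mem_pow_iff]
    exact hball m

/-- The integral elements of a finite place inside the completed integers. -/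
noncomputable def toO : (v.valuation k).integer →+* O where
  toFun x := ⟨algebraMap k _ (x : k), by
    rw [HeightOneSpectrum.mem_adicCompletionIntegers, valued_algebraMap]; exact x.2⟩
  map_one' := Subtype.ext (map_one _)
  map_mul' _ _ := Subtype.ext (map_mul _ _ _)
  map_zero' := Subtype.ext (map_zero _)
  map_add' _ _ := Subtype.ext (map_add _ _ _)

theorem eval_integral {f : k[X]} (hf : ∀ n, v.valuation k (f.coeff n) ≤ 1) {z : k} (hz : v.valuation k z ≤ 1) :
    v.valuation k (f.eval z) ≤ 1 := by
  rw [eval_eq_sum, Polynomial.sum]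
  refine Valuation.map_sum_le _ fun n _ => ?_
  rw [map_mul, map_pow]
  exact mul_le_one₀ (hf n) zero_le (pow_le_one₀ zero_le hz)

/-- Hensel's lemma at a place where a Bézout identity of `f` and its derivative is integral. -/
theorem exists_root_of_bezout {f : k[X]} (hf : f.Monic) (hfi : ∀ n, v.valuation k (f.coeff n) ≤ 1) {a b : k[X]}
    (ha : ∀ n, v.valuation k (a.coeff n) ≤ 1) (hb : ∀ n, v.valuation k (b.coeff n) ≤ 1)
    (hab : a * f + b * derivative f = 1) {z : k} (hz : v.valuation k z ≤ 1)
    (hfz : v.valuation k (f.eval z) < 1) : ∃ r : v.adicCompletion k, aeval r f = 0 := by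
  have hd : ∀ n, v.valuation k ((derivative f).coeff n) ≤ 1 := fun n => by
    rw [coeff_derivative, map_mul]
    refine mul_le_one₀ (hfi _) zero_le ?_
    simpa using v.valuation_le_one (K := k) (((n + 1 : ℕ) : 𝓞 k))
  have hu : v.valuation k ((derivative f).eval z) = 1 := by
    refine le_antisymm (eval_integral v hd hz) (not_lt.mp fun hlt => ?_)
    have h1 : v.valuation k ((a * f + b * derivative f).eval z) < 1 := by
      rw [eval_add, eval_mul, eval_mul]
      refine Valuation.map_add_lt _ ?_ ?_
      · rw [map_mul]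
        exact mul_lt_one_of_nonneg_of_lt_one_right (eval_integral v ha hz) zero_le hfz
      · rw [map_mul]
        exact mul_lt_one_of_nonneg_of_lt_one_right (eval_integral v hb hz) zero_le hlt
    rw [hab, eval_one, map_one] at h1
    exact lt_irrefl _ h1
  have hco : ↑f.coeffs ⊆ ((v.valuation k).integer : Set k) := fun c hc => by
    obtain ⟨n, -, rfl⟩ := Polynomial.mem_coeffs_iff.mp hc
    exact hfi n
  let g : O[X] := (f.toSubring _ hco).map (toO v)
  have hg : g.Monic := ((monic_toSubring f _ hco).mpr hf).map _
  have hgmap : g.map (algebraMap O (v.adicCompletion k)) = f.map (algebraMap k (v.adicCompletion k)) := by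
    refine Polynomial.ext fun n => ?_
    simp only [g, coeff_map]
    change algebraMap k _ ((f.toSubring _ hco).coeff n : k) = _
    rw [coeff_toSubring]
  let z' : O := toO v ⟨z, hz⟩
  have heval : ∀ p : O[X], ((p.eval z' : O) : v.adicCompletion k) =
      (p.map (algebraMap O (v.adicCompletion k))).eval (algebraMap k _ z) := fun p => by
    rw [eval_map, show algebraMap k (v.adicCompletion k) z = algebraMap O (v.adicCompletion k) z' from rfl,
      eval₂_at_apply]
    rfl
  have h1 : g.eval z' ∈ M := by
    rw [mem_maximalIdeal_iff, heval, hgmap, eval_map, eval₂_at_apply, valued_algebraMap]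
    exact hfz
  have h2 : IsUnit (Ideal.Quotient.mk M ((derivative g).eval z')) := by
    refine IsUnit.map _ ?_
    rw [← IsLocalRing.notMem_maximalIdeal, mem_maximalIdeal_iff, heval, ← derivative_map, hgmap, derivative_map,
      eval_map, eval₂_at_apply, valued_algebraMap, hu]
    exact lt_irrefl _
  obtain ⟨r, hr, -⟩ := HenselianRing.is_henselian g hg z' h1 h2
  refine ⟨r, ?_⟩
  have h3 : (g.map (algebraMap O (v.adicCompletion k))).eval (algebraMap O _ r) = 0 := by
    rw [eval_map, eval₂_at_apply, show g.eval r = 0 from hr, map_zero]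
  rw [hgmap, eval_map_algebraMap] at h3
  exact h3

/-- A primitive element with a root gives an embedding. -/
theorem nonempty_algHom_of_root {L : Type u} [Field L] [Algebra k L] [FiniteDimensional k L] {y : L}
    (hy : IntermediateField.adjoin k {y} = ⊤) {r : v.adicCompletion k} (hr : aeval r (minpoly k y) = 0) :
    Nonempty (L →ₐ[k] v.adicCompletion k) := by
  let pb := IntermediateField.adjoin.powerBasis (Algebra.IsIntegral.isIntegral (R := k) y)
  let e : L ≃ₐ[k] IntermediateField.adjoin k {y} :=
    (IntermediateField.topEquiv.symm.trans (IntermediateField.equivOfEq hy.symm))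
  exact ⟨(pb.lift r (by rw [IntermediateField.adjoin.powerBasis_gen, IntermediateField.minpoly_gen]; exact hr)).comp
    e.toAlgHom⟩

end NFFibLib
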