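import Groth.Agent.NFFibLib.Hensel
import Mathlib.RingTheory.Trace.Quotient
import Mathlib.RingTheory.Trace.Basic
import Mathlib.RingTheory.Norm.Basic
import Mathlib.RingTheory.NormTrace
import Mathlib.FieldTheory.Finite.GaloisField
import Mathlib.RingTheory.DedekindDomain.Different
import Mathlib.RingTheory.Ideal.Quotient.Operations

/-!
# Norms are dense in the units at an unramified prime
-/

set_option autoImplicit false
set_option linter.style.haveILetI false
set_option linter.unusedSectionVars false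

universe u v

open IsLocalRing Module

namespace NFFibLib

section LocalRing

variable {R S : Type*} [CommRing R] [CommRing S] [Algebra R S] [Module.Free R S] [Module.Finite R S]

attribute [local instance] Ideal.Quotient.field

theorem norm_quotient_mk [IsLocalRing R] (x : S) :
    Algebra.norm (R ⧸ maximalIdeal R) (Ideal.Quotient.mk (Ideal.map (algebraMap R S) (maximalIdeal R)) x) =
      Ideal.Quotient.mk (maximalIdeal R) (Algebra.norm R x) := by
  classical
  let ι := Module.Free.ChooseBasisIndex R S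
  let b : Module.Basis ι R S := Module.Free.chooseBasis R S
  rw [Algebra.norm_eq_matrix_det b, Algebra.norm_eq_matrix_det (IsLocalRing.basisQuotient b),
    RingHom.map_det]
  congr 1
  ext i j
  simp only [Algebra.leftMulMatrix_apply, Algebra.coe_lmul_eq_mul, LinearMap.toMatrix_apply,
    IsLocalRing.basisQuotient_apply, LinearMap.mul_apply', RingHom.mapMatrix_apply, Matrix.map_apply,
    ← map_mul, IsLocalRing.basisQuotient_repr]

end LocalRing

/-- The norm of a product of algebras. -/
theorem norm_prod_apply {R S T : Type*} [CommRing R] [CommRing S] [CommRing T] [Algebra R S] [Algebra R T]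
    [Module.Free R S] [Module.Free R T] [Module.Finite R S] [Module.Finite R T] (x : S × T) :
    Algebra.norm R x = Algebra.norm R x.1 * Algebra.norm R x.2 := by
  simp only [Algebra.norm_apply]
  rw [← LinearMap.det_prodMap]
  congr 1

/-- On a product with a finite field the norm takes every unit value and the trace every value. -/
theorem exists_norm_trace_prod {F E A : Type*} [Field F] [Finite F] [Field E] [CommRing A] [Algebra F E]
    [Algebra F A] [FiniteDimensional F E] [Module.Finite F A] :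
    (∀ c : F, ∃ x : E × A, Algebra.norm F x = c) ∧ ∀ c : F, ∃ x : E × A, Algebra.trace F (E × A) x = c := by
  haveI : Finite E := Module.finite_of_finite F
  refine ⟨fun c => ?_, fun c => ?_⟩
  · obtain ⟨e, he⟩ := FiniteField.norm_surjective F E c
    exact ⟨(e, 1), by rw [norm_prod_apply, map_one, mul_one, he]⟩
  · obtain ⟨e, he⟩ := Algebra.trace_surjective F E c
    exact ⟨(e, 0), by rw [Algebra.trace_prod_apply, map_zero, add_zero, he]⟩

section Dedekind

open IsLocalization.AtPrime nonZeroDivisors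

section Quot

variable {R S : Type*} [CommRing R] [CommRing S] [Algebra R S] (q : Ideal R) [q.IsMaximal]
variable (Rₚ Sₚ : Type*) [CommRing Rₚ] [CommRing Sₚ] [Algebra R Rₚ] [IsLocalization.AtPrime Rₚ q]
variable [IsLocalRing Rₚ] [Algebra S Sₚ] [Algebra R Sₚ] [Algebra Rₚ Sₚ]
variable [IsLocalization (Algebra.algebraMapSubmonoid S q.primeCompl) Sₚ]
variable [IsScalarTower R S Sₚ] [IsScalarTower R Rₚ Sₚ]

variable (S) in
theorem norm_quotient_eq_norm_localization_quotient (x : S) :
    Algebra.norm (R ⧸ q) (Ideal.Quotient.mk (Ideal.map (algebraMap R S) q) x) =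
      (equivQuotMaximalIdeal q Rₚ).symm
        (Algebra.norm (Rₚ ⧸ maximalIdeal Rₚ)
          (algebraMap S (Sₚ ⧸ Ideal.map (algebraMap Rₚ Sₚ) (maximalIdeal Rₚ)) x)) := by
  have : IsScalarTower R (Rₚ ⧸ maximalIdeal Rₚ) (Sₚ ⧸ Ideal.map (algebraMap Rₚ Sₚ) (maximalIdeal Rₚ)) := by
    apply IsScalarTower.of_algebraMap_eq'
    rw [IsScalarTower.algebraMap_eq R Rₚ (Rₚ ⧸ _), IsScalarTower.algebraMap_eq R Rₚ (Sₚ ⧸ _),
      ← RingHom.comp_assoc, ← IsScalarTower.algebraMap_eq Rₚ]
  rw [Algebra.norm_eq_of_equiv_equiv (equivQuotMaximalIdeal q Rₚ)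
    (equivQuotientMapMaximalIdeal S q Rₚ Sₚ)]
  · congr
  · ext x
    simp only [equivQuotMaximalIdeal, RingHom.quotientKerEquivOfSurjective,
      RingEquiv.coe_ringHom_trans, RingHom.coe_comp, RingHom.coe_coe, Function.comp_apply,
      Ideal.quotEquivOfEq_mk, RingHom.quotientKerEquivOfRightInverse.apply, RingHom.kerLift_mk,
      equivQuotientMapMaximalIdeal, Ideal.Quotient.algebraMap_quotient_map_quotient]
    rw [← IsScalarTower.algebraMap_apply, ← IsScalarTower.algebraMap_apply]

end Quot

variable {A : Type u} {B : Type v} [CommRing A] [CommRing B] [Algebra A B] [IsDedekindDomain A] [IsDedekindDomain B]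
  [Module.IsTorsionFree A B] [Module.Finite A B] (p : Ideal A) [p.IsMaximal]

attribute [local instance] Ideal.Quotient.field

/-- Norms on residue rings, and the first order expansion of norms. -/
theorem intNorm_residue_and_expansion :
    (∀ b : B, Algebra.norm (A ⧸ p) (Ideal.Quotient.mk (Ideal.map (algebraMap A B) p) b) =
      Ideal.Quotient.mk p (Algebra.intNorm A B b)) ∧
    ∀ (a : A) (b : B) (j : ℕ), 1 ≤ j → a ∈ p ^ j →
      Algebra.intNorm A B (1 + algebraMap A B a * b) - (1 + a * Algebra.intTrace A B b) ∈ p ^ (j + 1) := by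
  let Rₚ := Localization.AtPrime p
  let Sₚ := Localization (Algebra.algebraMapSubmonoid B p.primeCompl)
  let : Algebra Rₚ Sₚ := localizationAlgebra p.primeCompl B
  have : IsScalarTower A Rₚ Sₚ := IsScalarTower.of_algebraMap_eq'
    (by rw [RingHom.algebraMap_toAlgebra, IsLocalization.map_comp, ← IsScalarTower.algebraMap_eq])
  have : IsLocalization (Submonoid.map (algebraMap A B) (Ideal.primeCompl p)) Sₚ :=
    inferInstanceAs (IsLocalization (Algebra.algebraMapSubmonoid B p.primeCompl) Sₚ)
  have e : Algebra.algebraMapSubmonoid B p.primeCompl ≤ B⁰ :=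
    Submonoid.map_le_of_le_comap _ <| p.primeCompl_le_nonZeroDivisors.trans
      (nonZeroDivisors_le_comap_nonZeroDivisors_of_injective _
        (FaithfulSMul.algebraMap_injective _ _))
  have : IsDomain Sₚ := IsLocalization.isDomain_of_le_nonZeroDivisors _ e
  have : IsTorsionFree Rₚ Sₚ := by
    rw [isTorsionFree_iff_algebraMap_injective, RingHom.injective_iff_ker_eq_bot,
      RingHom.ker_eq_bot_iff_eq_zero]
    simp
  have : Module.Finite Rₚ Sₚ := .of_isLocalization A B p.primeCompl
  have : IsIntegrallyClosed Sₚ := isIntegrallyClosed_of_isLocalization _ _ e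
  have : IsPrincipalIdealRing Rₚ := by
    by_cases hp : p = ⊥
    · subst hp; infer_instance
    · have := (IsDedekindDomain.isDedekindDomainDvr A).2 p hp inferInstance
      infer_instance
  have : Module.Free Rₚ Sₚ := Module.free_of_finite_type_torsion_free'
  have hN : ∀ b : B, Algebra.norm Rₚ (algebraMap B Sₚ b) = algebraMap A Rₚ (Algebra.intNorm A B b) := fun b => by
    rw [Algebra.intNorm_eq_of_isLocalization p.primeCompl (Aₘ := Rₚ) (Bₘ := Sₚ) b, Algebra.intNorm_eq_norm]
  have hT : ∀ b : B, Algebra.trace Rₚ Sₚ (algebraMap B Sₚ b) = algebraMap A Rₚ (Algebra.intTrace A B b) := fun b => by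
    rw [Algebra.intTrace_eq_of_isLocalization A B p.primeCompl (Aₘ := Rₚ) (Bₘ := Sₚ) b, Algebra.intTrace_eq_trace]
  refine ⟨fun b => ?_, fun a b j hj ha => ?_⟩
  · apply (equivQuotMaximalIdeal p Rₚ).injective
    rw [norm_quotient_eq_norm_localization_quotient B p Rₚ Sₚ, RingEquiv.apply_symm_apply,
      IsScalarTower.algebraMap_apply B Sₚ, Ideal.Quotient.algebraMap_eq, norm_quotient_mk, hN,
      ← Ideal.Quotient.algebraMap_eq, ← IsScalarTower.algebraMap_apply]
    simp only [equivQuotMaximalIdeal, RingHom.quotientKerEquivOfSurjective, RingEquiv.coe_trans,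
      Function.comp_apply, Ideal.quotEquivOfEq_mk, RingHom.quotientKerEquivOfRightInverse.apply,
      RingHom.kerLift_mk]
  · obtain ⟨r, hr⟩ := Algebra.norm_one_add_smul (algebraMap A Rₚ a) (algebraMap B Sₚ b)
    rw [Algebra.smul_def, ← IsScalarTower.algebraMap_apply, IsScalarTower.algebraMap_apply A B Sₚ, ← map_mul,
      ← map_one (algebraMap B Sₚ), ← map_add, hN, hT] at hr
    have h2 : algebraMap A Rₚ (Algebra.intNorm A B (1 + algebraMap A B a * b) -
        (1 + a * Algebra.intTrace A B b)) ∈ Ideal.map (algebraMap A Rₚ) (p ^ (j + 1)) := by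
      rw [map_sub, hr, map_add, map_mul, map_one, mul_comm (algebraMap A Rₚ a), add_sub_cancel_left,
        ← map_pow]
      refine Ideal.mul_mem_left _ _ (Ideal.mem_map_of_mem _ ?_)
      refine Ideal.pow_le_pow_right (show j + 1 ≤ j * 2 by omega) ?_
      rw [pow_mul]
      exact Ideal.pow_mem_pow ha 2
    obtain ⟨⟨⟨y, hy⟩, ⟨s, hs⟩⟩, hys⟩ := (IsLocalization.mem_map_algebraMap_iff p.primeCompl Rₚ).mp h2
    simp only at hys
    rw [← map_mul] at hys
    have hys' := IsLocalization.injective Rₚ p.primeCompl_le_nonZeroDivisors hys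
    exact ((Ideal.IsMaximal.mul_mem_pow p (by rw [mul_comm, hys']; exact hy)).resolve_left hs)

variable [Finite (A ⧸ p)]

/-- **Norms are dense among the units at an unramified prime.** -/
theorem exists_intNorm_sub_mem (hp : p ≠ ⊥) (P Q : Ideal B) [P.IsMaximal]
    (hPQ : IsCoprime P Q) (hfac : Ideal.map (algebraMap A B) p = P * Q) {c : A} (hc : c ∉ p) (j : ℕ) :
    ∃ b : B, Algebra.intNorm A B b - c ∈ p ^ j := by
  obtain ⟨hres, hexp⟩ := intNorm_residue_and_expansion (B := B) p
  have hP : p ≤ P.comap (algebraMap A B) :=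
    Ideal.map_le_iff_le_comap.mp (hfac.le.trans Ideal.mul_le_left)
  have hQ : p ≤ Q.comap (algebraMap A B) :=
    Ideal.map_le_iff_le_comap.mp (hfac.le.trans Ideal.mul_le_right)
  letI : Algebra (A ⧸ p) (B ⧸ P) := Ideal.Quotient.algebraQuotientOfLEComap hP
  letI : Algebra (A ⧸ p) (B ⧸ Q) := Ideal.Quotient.algebraQuotientOfLEComap hQ
  have : IsScalarTower A (A ⧸ p) (B ⧸ P) := .of_algebraMap_eq' rfl
  have : IsScalarTower A (A ⧸ p) (B ⧸ Q) := .of_algebraMap_eq' rfl
  have : Module.Finite (A ⧸ p) (B ⧸ P) := .of_restrictScalars_finite A _ _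
  have : Module.Finite (A ⧸ p) (B ⧸ Q) := .of_restrictScalars_finite A _ _
  let e : (B ⧸ p.map (algebraMap A B)) ≃ₐ[A ⧸ p] ((B ⧸ P) × B ⧸ Q) :=
    { __ := (Ideal.quotEquivOfEq hfac).trans (Ideal.quotientMulEquivQuotientProd P Q hPQ),
      commutes' := Quotient.ind fun _ ↦ rfl }
  obtain ⟨hn, ht⟩ := exists_norm_trace_prod (F := A ⧸ p) (E := B ⧸ P) (A := B ⧸ Q)
  have hn' : ∀ x : A, ∃ b : B, Algebra.intNorm A B b - x ∈ p := fun x => by
    obtain ⟨y, hy⟩ := hn (Ideal.Quotient.mk p x)
    obtain ⟨b, hb⟩ := Ideal.Quotient.mk_surjective (e.symm y)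
    refine ⟨b, Ideal.Quotient.eq.mp ?_⟩
    rw [← hres, hb, Algebra.norm_eq_of_algEquiv, hy]
  have ht' : ∀ x : A, ∃ b : B, Algebra.intTrace A B b - x ∈ p := fun x => by
    obtain ⟨y, hy⟩ := ht (Ideal.Quotient.mk p x)
    obtain ⟨b, hb⟩ := Ideal.Quotient.mk_surjective (e.symm y)
    refine ⟨b, Ideal.Quotient.eq.mp ?_⟩
    rw [← Algebra.trace_quotient_eq_of_isDedekindDomain, hb, Algebra.trace_eq_of_algEquiv, hy]
  induction j with
  | zero => exact ⟨1, by simp⟩
  | succ j ih =>
    rcases Nat.eq_zero_or_pos j with rfl | hj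
    · obtain ⟨b, hb⟩ := hn' c
      exact ⟨b, by simpa using hb⟩
    obtain ⟨b, hb⟩ := ih
    have hbn : Algebra.intNorm A B b ∉ p := fun h => hc (by
      have h1 := sub_mem h ((Ideal.pow_le_self (n := j) (by omega)) hb)
      rwa [sub_sub_cancel] at h1)
    obtain ⟨i, hi⟩ : ∃ i : A, Algebra.intNorm A B b * i - 1 ∈ p := by
      obtain ⟨i, hi⟩ := Ideal.Quotient.mk_surjective ((Ideal.Quotient.mk p (Algebra.intNorm A B b))⁻¹)
      refine ⟨i, Ideal.Quotient.eq.mp ?_⟩
      rw [map_mul, hi, map_one, mul_inv_cancel₀]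
      exact fun h => hbn (Ideal.Quotient.eq_zero_iff_mem.mp h)
    obtain ⟨x, hx⟩ := ht' i
    refine ⟨b * (1 + algebraMap A B (c - Algebra.intNorm A B b) * x), ?_⟩
    have hd : c - Algebra.intNorm A B b ∈ p ^ j := by rw [← neg_sub]; exact neg_mem hb
    obtain ⟨q, hq⟩ : ∃ q ∈ p ^ (j + 1), Algebra.intNorm A B (1 + algebraMap A B (c - Algebra.intNorm A B b) * x) =
        1 + (c - Algebra.intNorm A B b) * Algebra.intTrace A B x + q :=
      ⟨_, hexp _ x j hj hd, by ring⟩
    rw [map_mul, hq.2]
    have e1 : Algebra.intNorm A B b * (1 + (c - Algebra.intNorm A B b) * Algebra.intTrace A B x + q) - c =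
        (c - Algebra.intNorm A B b) * (Algebra.intNorm A B b * (Algebra.intTrace A B x - i)) +
          (c - Algebra.intNorm A B b) * (Algebra.intNorm A B b * i - 1) + Algebra.intNorm A B b * q := by ring
    rw [e1, pow_succ]
    refine add_mem (add_mem (Ideal.mul_mem_mul hd (Ideal.mul_mem_left _ _ hx)) (Ideal.mul_mem_mul hd hi)) ?_
    rw [← pow_succ]
    exact Ideal.mul_mem_left _ _ hq.1

end Dedekind

end NFFibLib
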