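import Groth.Agent.NFFibLib.Split

/-!
# Elements near prescribed norms which are units away from places of degree one
-/

set_option autoImplicit false

universe u

open NumberField IsDedekindDomain
open scoped TensorProduct

namespace NFFibLib

variable {k L : Type u} [Field k] [NumberField k] [Field L] [NumberField L] [Algebra k L]

/-- An integral basis indexed by `Fin n`. -/
theorem exists_basis_isIntegral (k L : Type u) [Field k] [NumberField k] [Field L] [NumberField L] [Algebra k L] :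
    ∃ (n : ℕ) (b : Module.Basis (Fin n) k L), ∀ i, IsIntegral ℤ (b i) := by
  haveI : FiniteDimensional k L := Module.Finite.of_restrictScalars_finite ℚ k L
  obtain ⟨s, b, hb⟩ := FiniteDimensional.exists_is_basis_integral (𝓞 k) k L
  refine ⟨Fintype.card s, b.reindex (Fintype.equivFin s), fun i => ?_⟩
  rw [Module.Basis.reindex_apply]
  exact isIntegral_trans _ (hb _)

theorem exists_near_integral
    (Sf : Finset (HeightOneSpectrum (𝓞 k))) (Si : Finset (InfinitePlace k))
    (tf : (v : HeightOneSpectrum (𝓞 k)) → v.adicCompletion k) (ti : (w : InfinitePlace k) → w.Completion)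
    (htf : ∀ v ∈ Sf, ∃ x : (v.adicCompletion k) ⊗[k] L, Algebra.norm (v.adicCompletion k) x = tf v)
    (hti : ∀ w ∈ Si, ∃ x : w.Completion ⊗[k] L, Algebra.norm w.Completion x = ti w)
    (Uf : (v : HeightOneSpectrum (𝓞 k)) → Set (v.adicCompletion k))
    (hUf : ∀ v ∈ Sf, IsOpen (Uf v) ∧ tf v ∈ Uf v)
    (Ui : (w : InfinitePlace k) → Set w.Completion)
    (hUi : ∀ w ∈ Si, IsOpen (Ui w) ∧ ti w ∈ Ui w)
    (v₀ : HeightOneSpectrum (𝓞 k)) (hv₀ : v₀ ∉ Sf) :
    ∃ t : k, t ≠ 0 ∧ (∀ v ∈ Sf, algebraMap k (v.adicCompletion k) t ∈ Uf v) ∧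
      (∀ w ∈ Si, algebraMap k w.Completion t ∈ Ui w) ∧
      ∀ v : HeightOneSpectrum (𝓞 k), v ∉ Sf → v ≠ v₀ →
        v.valuation k t ≤ 1 ∧ (v.valuation k t = 1 ∨ Nonempty (L →ₐ[k] v.adicCompletion k)) := by
  classical
  haveI : FiniteDimensional k L := Module.Finite.of_restrictScalars_finite ℚ k L
  obtain ⟨n, b, hb⟩ := exists_basis_isIntegral k L
  obtain ⟨x, hx0, hxS, hxI, hx⟩ := exists_near b hb Sf v₀ hv₀ (fun v => nm b _ ⁻¹' Uf v)
    (fun v hv => ⟨(hUf v hv).1.preimage (continuous_nm b _), by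
      obtain ⟨y, hy⟩ := htf v hv
      obtain ⟨c, hc⟩ := exists_coords b _ y
      exact ⟨c, by rw [Set.mem_preimage, hc, hy]; exact (hUf v hv).2⟩⟩)
    (fun w => if w ∈ Si then nm b _ ⁻¹' Ui w else Set.univ)
    (fun w => by
      by_cases hw : w ∈ Si
      · simp only [hw, if_true]
        refine ⟨(hUi w hw).1.preimage (continuous_nm b _), ?_⟩
        obtain ⟨y, hy⟩ := hti w hw
        obtain ⟨c, hc⟩ := exists_coords b _ y
        exact ⟨c, by rw [Set.mem_preimage, hc, hy]; exact (hUi w hw).2⟩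
      · simp only [hw, if_false]
        exact ⟨isOpen_univ, Set.univ_nonempty⟩)
  refine ⟨Algebra.norm k (∑ i, x i • b i), hx0, fun v hv => ?_, fun w hw => ?_, hx⟩
  · have h := hxS v hv
    rwa [Set.mem_preimage, nm_algebraMap] at h
  · have h := hxI w
    simp only [hw, if_true, Set.mem_preimage, nm_algebraMap] at h
    exact h

end NFFibLib
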