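import Groth.Agent.NFFibLib.UnramNorm

/-!
# A linear change of coordinate on the projective line and local norm conditions
-/

set_option autoImplicit false
set_option linter.style.haveILetI false
set_option maxHeartbeats 1000000

universe u

open NumberField IsDedekindDomain WithZero
open scoped TensorProduct Topology

namespace NFFibLib

attribute [local instance] bcAlg

section Alg

variable {k K L : Type u} [Field k] [Field K] [Algebra k K] [Field L] [Algebra K L] [Algebra k L] [IsScalarTower k K L]
  (F : Type u) [Field F] [Algebra k F] {α β γ δ : k} {a b a' b' : K} {t t' : F}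

theorem moebius_identity (hga : algebraMap k K γ * a + algebraMap k K δ ≠ 0)
    (hgt : algebraMap k F γ * t + algebraMap k F δ ≠ 0)
    (ha' : a' = (algebraMap k K α * a + algebraMap k K β) / (algebraMap k K γ * a + algebraMap k K δ))
    (hb' : b' = b * (algebraMap k K γ * a + algebraMap k K δ))
    (ht' : t' = (algebraMap k F α * t + algebraMap k F β) / (algebraMap k F γ * t + algebraMap k F δ)) :
    (1 : F) ⊗ₜ[k] b' * (t' ⊗ₜ[k] (1 : K) - (1 : F) ⊗ₜ[k] a') =
      ((1 : F) ⊗ₜ[k] b * (t ⊗ₜ[k] (1 : K) - (1 : F) ⊗ₜ[k] a)) *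
        ((algebraMap k F (α * δ - β * γ) / (algebraMap k F γ * t + algebraMap k F δ)) ⊗ₜ[k] (1 : K)) := by
  let f : F →ₐ[k] F ⊗[k] K := Algebra.TensorProduct.includeLeft
  let g : K →ₐ[k] F ⊗[k] K := Algebra.TensorProduct.includeRight
  change g b' * (f t' - g a') = (g b * (f t - g a)) *
    f (algebraMap k F (α * δ - β * γ) / (algebraMap k F γ * t + algebraMap k F δ))
  have h1 : f (algebraMap k F γ * t + algebraMap k F δ) * f t' = f (algebraMap k F α * t + algebraMap k F β) := by
    rw [← map_mul, ht', mul_div_cancel₀ _ hgt]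
  have h2 : g (algebraMap k K γ * a + algebraMap k K δ) * g a' = g (algebraMap k K α * a + algebraMap k K β) := by
    rw [← map_mul, ha', mul_div_cancel₀ _ hga]
  have h3 : f (algebraMap k F γ * t + algebraMap k F δ) *
      f (algebraMap k F (α * δ - β * γ) / (algebraMap k F γ * t + algebraMap k F δ)) =
      algebraMap k (F ⊗[k] K) (α * δ - β * γ) := by
    rw [← map_mul, mul_div_cancel₀ _ hgt, AlgHom.commutes]
  rw [hb', map_mul]
  refine IsUnit.mul_left_cancel ((IsUnit.mk0 _ hgt).map f) ?_
  generalize f (algebraMap k F (α * δ - β * γ) / (algebraMap k F γ * t + algebraMap k F δ)) = r at h3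
  generalize f t' = T' at h1
  generalize g a' = A' at h2
  simp only [map_add, map_mul, map_sub, AlgHom.commutes] at h1 h2 h3 ⊢
  linear_combination
    (g b * (algebraMap k _ γ * g a + algebraMap k _ δ)) * h1 -
    (g b * (algebraMap k _ γ * f t + algebraMap k _ δ)) * h2 - (g b * (f t - g a)) * h3

theorem exists_norm_moebius (hga : algebraMap k K γ * a + algebraMap k K δ ≠ 0)
    (hgt : algebraMap k F γ * t + algebraMap k F δ ≠ 0)
    (ha' : a' = (algebraMap k K α * a + algebraMap k K β) / (algebraMap k K γ * a + algebraMap k K δ))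
    (hb' : b' = b * (algebraMap k K γ * a + algebraMap k K δ))
    (ht' : t' = (algebraMap k F α * t + algebraMap k F β) / (algebraMap k F γ * t + algebraMap k F δ))
    (hx : ∃ x : F ⊗[k] L, IsUnit x ∧ Algebra.norm (F ⊗[k] K) x =
      (1 : F) ⊗ₜ[k] b * (t ⊗ₜ[k] (1 : K) - (1 : F) ⊗ₜ[k] a))
    (hy : ∃ y : F ⊗[k] L, IsUnit y ∧ Algebra.norm (F ⊗[k] K) y =
      (algebraMap k F (α * δ - β * γ) / (algebraMap k F γ * t + algebraMap k F δ)) ⊗ₜ[k] (1 : K)) :
    ∃ x : F ⊗[k] L, IsUnit x ∧ Algebra.norm (F ⊗[k] K) x =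
      (1 : F) ⊗ₜ[k] b' * (t' ⊗ₜ[k] (1 : K) - (1 : F) ⊗ₜ[k] a') := by
  obtain ⟨x, hxu, hx⟩ := hx
  obtain ⟨y, hyu, hy⟩ := hy
  exact ⟨x * y, hxu.mul hyu, by rw [map_mul, hx, hy, moebius_identity F hga hgt ha' hb' ht']⟩

variable [TopologicalSpace F] [IsTopologicalRing F] [ContinuousInv₀ F]

theorem exists_nhd_inverse (hdet : α * δ - β * γ ≠ 0) (hgt : algebraMap k F γ * t + algebraMap k F δ ≠ 0)
    (ht' : t' = (algebraMap k F α * t + algebraMap k F β) / (algebraMap k F γ * t + algebraMap k F δ))
    (U : Set F) (hU : IsOpen U) (ht : t ∈ U) :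
    ∃ U' : Set F, IsOpen U' ∧ t' ∈ U' ∧ ∀ s : k, α ≠ γ * s → algebraMap k F s ∈ U' →
      algebraMap k F ((δ * s - β) / (α - γ * s)) ∈ U := by
  let den : F → F := fun x => algebraMap k F α - algebraMap k F γ * x
  let φ : F → F := fun x => (algebraMap k F δ * x - algebraMap k F β) * (den x)⁻¹
  have hP : t' * (algebraMap k F γ * t + algebraMap k F δ) = algebraMap k F α * t + algebraMap k F β := by
    rw [ht', div_mul_cancel₀ _ hgt]
  have e1 : den t' * (algebraMap k F γ * t + algebraMap k F δ) = algebraMap k F (α * δ - β * γ) := by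
    simp only [den, map_sub, map_mul]
    linear_combination (-algebraMap k F γ) * hP
  have hd : den t' ≠ 0 := fun h => (_root_.map_ne_zero (algebraMap k F)).mpr hdet (by rw [← e1, h, zero_mul])
  have e2 : φ t' = t := by
    simp only [φ]
    rw [← div_eq_mul_inv, div_eq_iff hd]
    refine mul_right_cancel₀ hgt ?_
    simp only [den]
    linear_combination (algebraMap k F δ + t * algebraMap k F γ) * hP
  have hc : ContinuousAt φ t' := by
    refine ContinuousAt.mul ?_ (ContinuousAt.inv₀ ?_ hd) <;> fun_prop
  obtain ⟨U', hU'1, hU'2, hU'3⟩ := _root_.mem_nhds_iff.mp (hc (hU.mem_nhds (e2.symm ▸ ht)))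
  refine ⟨U', hU'2, hU'3, fun s _ hs => ?_⟩
  have := hU'1 hs
  simp only [Set.mem_preimage, φ, den] at this
  rwa [map_div₀, map_sub, map_sub, map_mul, map_mul, div_eq_mul_inv]

end Alg

section Val

variable {k K : Type u} [Field k] [NumberField k] [Field K] [NumberField K] [Algebra k K]

theorem exists_mul_lt_one (W : HeightOneSpectrum (𝓞 K)) (x : K) :
    ∃ N : ℕ, ∀ y : K, W.valuation K y ≤ exp (-(N : ℤ)) → W.valuation K (y * x) < 1 := by
  rcases eq_or_ne (W.valuation K x) 0 with h | h
  · exact ⟨0, fun y _ => by rw [map_mul, h, mul_zero]; exact zero_lt_one⟩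
  · refine ⟨(log (W.valuation K x) + 1).toNat, fun y hy => ?_⟩
    rw [map_mul]
    refine lt_of_le_of_lt (mul_le_mul' hy le_rfl) ?_
    have hm := exp_log h
    generalize log (W.valuation K x) = m at hm ⊢
    rw [← hm]
    clear hm hy
    rw [← exp_add, ← exp_zero, exp_lt_exp]
    omega

/-- Away from `S`, the pulled back value is a unit near zero and transports positivity. -/
theorem moebius_valuation {α β γ δ t₀' : k} {a b a' b' : K} (v : HeightOneSpectrum (𝓞 k))
    (W : HeightOneSpectrum (𝓞 K)) [W.asIdeal.LiesOver v.asIdeal]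
    (hα : v.valuation k α = 1)
    (ha : W.valuation K (algebraMap k K α * a + algebraMap k K β) = 1)
    (hga : algebraMap k K γ * a + algebraMap k K δ ≠ 0)
    (hne : α ≠ γ * t₀')
    (ha' : a' = (algebraMap k K α * a + algebraMap k K β) / (algebraMap k K γ * a + algebraMap k K δ))
    (hb' : b' = b * (algebraMap k K γ * a + algebraMap k K δ))
    (hlt : W.valuation K (algebraMap k K ((δ * t₀' - β) / (α - γ * t₀')) - a) < 1) :
    (¬ (W.valuation K (algebraMap k K t₀' * algebraMap k K γ) < 1 ∧
      W.valuation K (algebraMap k K t₀' * (algebraMap k K γ * a + algebraMap k K δ)) < 1)) ∧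
    (v.valuation k γ ≤ 1 → W.valuation K b = 1 → W.valuation K b' = 1 →
      W.valuation K (algebraMap k K t₀' - a') < 1) := by
  have hden : algebraMap k K α - algebraMap k K γ * algebraMap k K t₀' ≠ 0 := by
    rw [← map_mul, ← map_sub]
    exact (_root_.map_ne_zero _).mpr (sub_ne_zero.mpr hne)
  have hα' : W.valuation K (algebraMap k K α) = 1 := (over_eq_one_iff v W α).mpr hα
  have hγ' : v.valuation k γ ≤ 1 → W.valuation K (algebraMap k K γ) ≤ 1 := (over_le_one_iff v W γ).mpr
  simp only [map_div₀ (algebraMap k K), map_sub (algebraMap k K), map_mul (algebraMap k K)] at hlt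
  generalize algebraMap k K α = A at *
  generalize algebraMap k K β = B at *
  generalize algebraMap k K γ = C at *
  generalize algebraMap k K δ = D at *
  generalize algebraMap k K t₀' = T at *
  have e : ((D * T - B) / (A - C * T) - a) * (A - C * T) = T * (C * a + D) - (A * a + B) := by
    rw [sub_mul, div_mul_cancel₀ _ hden]
    ring
  refine ⟨fun ⟨h1, h2⟩ => ?_, fun hγ hb hb'1 => ?_⟩
  · have hv : W.valuation K (A - C * T) = 1 := by
      rw [Valuation.map_sub_eq_of_lt_left _ (by rw [hα', mul_comm]; exact h1), hα']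
    have : W.valuation K (T * (C * a + D) - (A * a + B)) = 1 := by
      rw [Valuation.map_sub_eq_of_lt_right _ (by rw [ha]; exact h2), ha]
    rw [← e, map_mul, hv, mul_one] at this
    exact hlt.ne this
  · have hcd : W.valuation K (C * a + D) = 1 := by rwa [hb', map_mul, hb, one_mul] at hb'1
    generalize hs : (D * T - B) / (A - C * T) = s at hlt
    have hC := hγ' hγ
    have hmul : ∀ x : K, W.valuation K x ≤ 1 → W.valuation K (x * (s - a)) < 1 := fun x hx => by
      rw [map_mul]
      exact lt_of_le_of_lt (mul_le_of_le_one_left zero_le hx) hlt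
    have h1 : W.valuation K (C * s + D) = 1 := by
      rw [show C * s + D = C * (s - a) + (C * a + D) by ring,
        Valuation.map_add_eq_of_lt_right _ (by rw [hcd]; exact hmul C hC), hcd]
    have h2 : W.valuation K (A * s + B) = 1 := by
      rw [show A * s + B = A * (s - a) + (A * a + B) by ring,
        Valuation.map_add_eq_of_lt_right _ (by rw [ha]; exact hmul A hα'.le), ha]
    have h0 : C * s + D ≠ 0 := fun h => by rw [h, map_zero] at h1; exact zero_ne_one h1
    have hT : T * (C * s + D) = A * s + B := by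
      linear_combination (div_eq_iff hden).mp hs
    have hTv : W.valuation K T = 1 := by
      have := congrArg (W.valuation K) hT
      rwa [map_mul, h1, h2, mul_one] at this
    have hAT : W.valuation K (A - C * T) ≤ 1 := by
      refine (Valuation.map_sub _ _ _).trans (max_le hα'.le ?_)
      rw [map_mul, hTv, mul_one]
      exact hC
    have e' : (T - a') * (C * a + D) = (s - a) * (A - C * T) := by
      rw [← hs, e, ha', sub_mul, div_mul_cancel₀ _ hga]
    have := congrArg (W.valuation K) e'
    rw [map_mul, hcd, mul_one, map_mul] at this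
    rw [this]
    exact lt_of_le_of_lt (mul_le_of_le_one_right zero_le hAT) hlt

end Val

end NFFibLib
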