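import Groth.Agent.NFFibLib.Hensel
import Mathlib.LinearAlgebra.Lagrange
import Mathlib.RingTheory.Norm.Basic
import Mathlib.RingTheory.DedekindDomain.IntegralClosure
import Mathlib.FieldTheory.PrimitiveElement
import Mathlib.RingTheory.Ideal.Norm.AbsNorm

/-!
# Norms which are units away from places of degree one
-/

set_option autoImplicit false
set_option linter.style.haveILetI false
set_option maxHeartbeats 800000

universe u

open NumberField IsDedekindDomain WithZero Polynomial Filter Topology Module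
open scoped TensorProduct

namespace NFFibLib

variable {k : Type u} [Field k] [NumberField k]

theorem isOpen_val_eq_one (v : HeightOneSpectrum (𝓞 k)) :
    IsOpen {x : v.adicCompletion k | Valued.v x = 1} := by
  rw [isOpen_iff_mem_nhds]
  intro x hx
  rw [Valued.mem_nhds]
  refine ⟨1, fun y hy => ?_⟩
  have hy' : Valued.v (y - x) < Valued.v x := by
    rw [show Valued.v x = 1 from hx]
    exact (Valuation.restrict_lt_one_iff _).mp (by simpa using hy)
  show Valued.v y = 1
  rw [← sub_add_cancel y x, Valuation.map_add_eq_of_lt_right _ hy']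
  exact hx

theorem not_isUnit_prime {p : ℕ} (hp : p.Prime) : ¬ IsUnit (p : 𝓞 k) := by
  intro h
  have h1 : IsUnit (algebraMap (𝓞 k) k (p : 𝓞 k)) ∧ IsIntegral ℤ ((p : k)⁻¹) := by
    obtain ⟨u, hu⟩ := h
    refine ⟨(Units.map (algebraMap (𝓞 k) k).toMonoidHom u).isUnit.imp fun w hw => ?_, ?_⟩
    · rw [hw, ← hu]; rfl
    · have hinv : ((p : k)⁻¹) = algebraMap (𝓞 k) k (↑u⁻¹ : 𝓞 k) := by
        refine inv_eq_of_mul_eq_one_right ?_
        rw [← map_natCast (algebraMap (𝓞 k) k), ← map_mul, ← hu, Units.mul_inv, map_one]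
      rw [hinv]
      exact RingOfIntegers.isIntegral_coe _
  have h2 : IsIntegral ℤ ((p : ℚ)⁻¹) := by
    rw [← isIntegral_algHom_iff (IsScalarTower.toAlgHom ℤ ℚ k) (algebraMap ℚ k).injective]
    simpa using h1.2
  obtain ⟨z, hz⟩ := IsIntegrallyClosed.isIntegral_iff.mp h2
  have h3 : (z : ℚ) * p = 1 := by
    rw [show (z : ℚ) = algebraMap ℤ ℚ z from rfl, hz, inv_mul_cancel₀ (Nat.cast_ne_zero.mpr hp.ne_zero)]
  have h4 : z * (p : ℤ) = 1 := by exact_mod_cast h3
  have h5 := congrArg Int.natAbs h4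
  rw [Int.natAbs_mul, Int.natAbs_natCast, Int.natAbs_one] at h5
  exact hp.one_lt.ne' (Nat.eq_one_of_mul_eq_one_left h5)

theorem eq_top_of_coprime {I : Ideal (𝓞 k)} {a p : ℕ} (hp : (p : 𝓞 k) ∈ I) (ha : (a : 𝓞 k) ∈ I)
    (h : Nat.Coprime a p) : I = ⊤ := by
  refine (Ideal.eq_top_iff_one I).mpr ?_
  obtain ⟨x, y, e⟩ := Nat.isCoprime_iff_coprime.mpr h
  have e' := congrArg (Int.castRingHom (𝓞 k)) e
  rw [map_add, map_mul, map_mul, map_one, map_natCast, map_natCast] at e'
  rw [← e']
  exact add_mem (Ideal.mul_mem_left _ _ ha) (Ideal.mul_mem_left _ _ hp)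

theorem natPrime_notMem_of_gt {v : HeightOneSpectrum (𝓞 k)} {N p : ℕ} (hp : p.Prime) (hN : 0 < N) (hNp : N < p)
    (hdvd : Ideal.absNorm v.asIdeal ∣ N) : (p : 𝓞 k) ∉ v.asIdeal := fun hmem =>
  v.isPrime.ne_top (eq_top_of_coprime hmem (Ideal.absNorm_mem v.asIdeal)
    (Nat.Coprime.coprime_dvd_left hdvd
      (hp.coprime_iff_not_dvd.mpr fun hd => absurd (Nat.le_of_dvd hN hd) (by omega)).symm))

/-- A finite place outside a given finite set. -/
theorem exists_place_notMem (B : Finset (HeightOneSpectrum (𝓞 k))) :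
    ∃ v : HeightOneSpectrum (𝓞 k), v ∉ B := by
  obtain ⟨p, hple, hp⟩ := Nat.exists_infinite_primes ((∏ v ∈ B, Ideal.absNorm v.asIdeal) + 1)
  obtain ⟨m, hm, hle⟩ := Ideal.exists_le_maximal (Ideal.span {(p : 𝓞 k)})
    (fun h => not_isUnit_prime hp (Ideal.span_singleton_eq_top.mp h))
  have hpm : (p : 𝓞 k) ∈ m := hle (Ideal.mem_span_singleton_self _)
  have hm0 : m ≠ ⊥ := fun h => Nat.cast_ne_zero.mpr hp.ne_zero (Ideal.mem_bot.mp (h ▸ hpm))
  have key : ∀ v ∈ B, (p : 𝓞 k) ∉ v.asIdeal := fun v hv =>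
    natPrime_notMem_of_gt hp (Finset.prod_pos (f := fun v : HeightOneSpectrum (𝓞 k) => Ideal.absNorm v.asIdeal)
      fun w _ => Nat.pos_of_ne_zero fun h => w.ne_bot (Ideal.absNorm_eq_zero_iff.mp h))
      (Nat.lt_of_succ_le hple) (Finset.dvd_prod_of_mem _ hv)
  exact ⟨⟨m, hm.isPrime, hm0⟩, fun hB => key _ hB hpm⟩

theorem finite_setOf_small (n : ℕ) : {v : HeightOneSpectrum (𝓞 k) | Ideal.absNorm v.asIdeal ≤ n}.Finite :=
  ((Ideal.finite_setOfPred_absNorm_le n).preimage (f := fun v : HeightOneSpectrum (𝓞 k) => v.asIdeal)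
    (fun _ _ _ _ h => HeightOneSpectrum.ext h)).subset fun _ h => h

/-- A monic integral polynomial of small degree takes a unit value. -/
theorem exists_eval_unit (v : HeightOneSpectrum (𝓞 k)) {f : k[X]} (hf : f.Monic)
    (hfi : ∀ n, v.valuation k (f.coeff n) ≤ 1) (hd : f.natDegree < Ideal.absNorm v.asIdeal) :
    ∃ z : 𝓞 k, v.valuation k (f.eval (algebraMap (𝓞 k) k z)) = 1 := by
  classical
  by_contra hc
  push Not at hc
  haveI : Finite (𝓞 k ⧸ v.asIdeal) := Ideal.finiteQuotientOfFreeOfNeBot _ v.ne_bot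
  have hcard : f.natDegree + 1 ≤ Nat.card (𝓞 k ⧸ v.asIdeal) := by
    rw [Ideal.absNorm_apply, Submodule.cardQuot_apply] at hd
    exact hd
  haveI := Fintype.ofFinite (𝓞 k ⧸ v.asIdeal)
  rw [Nat.card_eq_fintype_card, ← Finset.card_univ] at hcard
  obtain ⟨S, -, hS⟩ := Finset.exists_subset_card_eq hcard
  let z : 𝓞 k ⧸ v.asIdeal → k := fun q => algebraMap (𝓞 k) k (Function.surjInv Ideal.Quotient.mk_surjective q)
  have hz1 : ∀ q, v.valuation k (z q) ≤ 1 := fun q => v.valuation_le_one _
  have hsub : ∀ q q', q ≠ q' → v.valuation k (z q - z q') = 1 := by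
    intro q q' hne
    rw [← map_sub, HeightOneSpectrum.valuation_eq_one_iff_notMem, ← Ideal.Quotient.eq]
    simpa [Function.surjInv_eq] using hne
  have hinj : Set.InjOn z S := fun q _ q' _ h => by
    by_contra hne
    have h1 := hsub q q' hne
    rw [h, sub_self, map_zero] at h1
    exact zero_ne_one h1
  have hL := Lagrange.leadingCoeff_eq_sum hinj (P := f) (by rw [hS, Polynomial.degree_eq_natDegree hf.ne_zero]; rfl)
  have hlt : v.valuation k f.leadingCoeff < 1 := by
    rw [hL]
    refine Valuation.map_sum_lt _ one_ne_zero fun q hq => ?_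
    rw [map_div₀, map_prod, Finset.prod_eq_one fun q' hq' => hsub q q' (Finset.ne_of_mem_erase hq').symm, div_one]
    exact lt_of_le_of_ne (eval_integral v hfi (hz1 q)) (hc _)
  rw [hf.leadingCoeff, map_one] at hlt
  exact lt_irrefl _ hlt

variable {L : Type u} [Field L] [NumberField L] [Algebra k L] {ι : Type} [Fintype ι] [DecidableEq ι]

/-- The norm form of a basis. -/
noncomputable def nm (b : Module.Basis ι k L) (A : Type u) [CommRing A] [Algebra k A] (c : ι → A) : A :=
  (∑ i, c i • (Algebra.leftMulMatrix b (b i)).map (algebraMap k A)).det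

variable (b : Module.Basis ι k L)

theorem nm_eq_norm (A : Type u) [CommRing A] [Algebra k A] (c : ι → A) :
    nm b A c = Algebra.norm A (∑ i, c i ⊗ₜ[k] b i) := by
  rw [Algebra.norm_eq_matrix_det (Algebra.TensorProduct.basis A b), map_sum, nm]
  congr 1
  refine Finset.sum_congr rfl fun i _ => ?_
  ext r s
  rw [Algebra.leftMulMatrix_eq_repr_mul, Algebra.TensorProduct.basis_apply, Algebra.TensorProduct.tmul_mul_tmul,
    mul_one, Algebra.TensorProduct.basis_repr_tmul, Matrix.smul_apply, Matrix.map_apply,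
    Algebra.leftMulMatrix_eq_repr_mul]
  simp

theorem exists_coords (A : Type u) [CommRing A] [Algebra k A] (x : A ⊗[k] L) :
    ∃ c : ι → A, nm b A c = Algebra.norm A x := by
  refine ⟨fun i => (Algebra.TensorProduct.basis A b).repr x i, ?_⟩
  rw [nm_eq_norm]
  congr 1
  conv_rhs => rw [← (Algebra.TensorProduct.basis A b).sum_repr x]
  refine Finset.sum_congr rfl fun i _ => ?_
  rw [Algebra.TensorProduct.basis_apply, TensorProduct.smul_tmul', smul_eq_mul, mul_one]

theorem nm_algebraMap (A : Type u) [CommRing A] [Algebra k A] (x : ι → k) :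
    nm b A (fun i => algebraMap k A (x i)) = algebraMap k A (Algebra.norm k (∑ i, x i • b i)) := by
  rw [Algebra.norm_eq_matrix_det b, RingHom.map_det, nm, map_sum]
  congr 1
  ext r s
  simp only [map_smul, RingHom.mapMatrix_apply, Matrix.sum_apply, Matrix.map_apply, Matrix.smul_apply, smul_eq_mul, map_sum, map_mul]

theorem continuous_nm (A : Type u) [CommRing A] [Algebra k A] [TopologicalSpace A] [IsTopologicalRing A] :
    Continuous (nm b A) := by
  unfold nm
  refine Continuous.matrix_det ?_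
  exact continuous_finsetSum _ fun i _ => (continuous_apply i).smul continuous_const

omit [NumberField k] [NumberField L] in
theorem adjoin_sub_algebraMap {y : L} (hy : IntermediateField.adjoin k {y} = ⊤) (a : k) :
    IntermediateField.adjoin k {y - algebraMap k L a} = ⊤ := by
  rw [eq_top_iff, ← hy, IntermediateField.adjoin_simple_le_iff]
  have h := add_mem (IntermediateField.mem_adjoin_simple_self k (y - algebraMap k L a))
    ((IntermediateField.adjoin k {y - algebraMap k L a}).algebraMap_mem a)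
  rwa [sub_add_cancel] at h

variable [FiniteDimensional k L]

theorem valuation_norm_sub (v : HeightOneSpectrum (𝓞 k)) {y : L} (hy : IntermediateField.adjoin k {y} = ⊤) (a : k) :
    v.valuation k (Algebra.norm k (y - algebraMap k L a)) = v.valuation k ((minpoly k y).eval a) := by
  let z := y - algebraMap k L a
  have hz := adjoin_sub_algebraMap hy a
  let pb := (IntermediateField.adjoin.powerBasis (Algebra.IsIntegral.isIntegral (R := k) z)).map
    ((IntermediateField.equivOfEq hz).trans IntermediateField.topEquiv)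
  have hgen : pb.gen = z := rfl
  have h := Algebra.PowerBasis.norm_gen_eq_coeff_zero_minpoly pb
  rw [hgen] at h
  rw [h, map_mul, map_pow, Valuation.map_neg, map_one, one_pow, one_mul, minpoly.sub_algebraMap,
    coeff_zero_eq_eval_zero, eval_comp]
  simp

theorem natDegree_minpoly_of_adjoin {y : L} (hy : IntermediateField.adjoin k {y} = ⊤) :
    (minpoly k y).natDegree = Module.finrank k L := by
  rw [← IntermediateField.adjoin.finrank (Algebra.IsIntegral.isIntegral (R := k) y), hy,
    IntermediateField.finrank_top']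

/-- Minimal polynomials of combinations of integral elements with integral coefficients. -/
theorem valuation_coeff_minpoly (v : HeightOneSpectrum (𝓞 k)) (hb : ∀ i, IsIntegral ℤ (b i)) {x : ι → k}
    (hx : ∀ i, v.valuation k (x i) ≤ 1) (n : ℕ) :
    v.valuation k ((minpoly k (∑ i, x i • b i)).coeff n) ≤ 1 := by
  let R := (v.valuation k).valuationSubring
  have hint : IsIntegral R (∑ i, x i • b i) := by
    refine IsIntegral.sum _ fun i _ => ?_
    have : x i • b i = (⟨x i, hx i⟩ : R) • b i := rfl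
    rw [this]
    exact IsIntegral.smul _ ((hb i).tower_top)
  rw [minpoly.isIntegrallyClosed_eq_field_fractions' k hint, coeff_map]
  exact ((minpoly R _).coeff n).2

theorem exists_primitive_integral :
    ∃ θ : L, IsIntegral ℤ θ ∧ IntermediateField.adjoin k {θ} = ⊤ := by
  obtain ⟨α, hα⟩ := Field.exists_primitive_element k L
  obtain ⟨d, hd, hint⟩ := exists_integral_multiples ℤ ℚ (L := L) {α}
  refine ⟨d • α, hint α (Finset.mem_singleton_self α), ?_⟩
  rw [eq_top_iff, ← hα, IntermediateField.adjoin_simple_le_iff]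
  have hd0 : (d : L) ≠ 0 := Int.cast_ne_zero.mpr hd
  have h := mul_mem (inv_mem (intCast_mem (IntermediateField.adjoin k {d • α}) d))
    (IntermediateField.mem_adjoin_simple_self k (d • α))
  rw [zsmul_eq_mul] at h ⊢
  rwa [inv_mul_cancel_left₀ hd0] at h

theorem finite_intermediateField : Finite (IntermediateField k L) :=
  (Field.exists_primitive_element_iff_finite_intermediateField k L).mp
    ⟨inferInstance, Field.exists_primitive_element k L⟩

include b in
/-- **Norms which are units away from the places of degree one.** -/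
theorem exists_near (hb : ∀ i, IsIntegral ℤ (b i)) (Sf : Finset (HeightOneSpectrum (𝓞 k)))
    (v₀ : HeightOneSpectrum (𝓞 k)) (hv₀ : v₀ ∉ Sf)
    (U : (v : HeightOneSpectrum (𝓞 k)) → Set (ι → v.adicCompletion k)) (hU : ∀ v ∈ Sf, IsOpen (U v) ∧ (U v).Nonempty)
    (V : (w : InfinitePlace k) → Set (ι → w.Completion)) (hV : ∀ w, IsOpen (V w) ∧ (V w).Nonempty) :
    ∃ x : ι → k, Algebra.norm k (∑ i, x i • b i) ≠ 0 ∧
      (∀ v ∈ Sf, (fun i => algebraMap k (v.adicCompletion k) (x i)) ∈ U v) ∧
      (∀ w, (fun i => algebraMap k w.Completion (x i)) ∈ V w) ∧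
      ∀ v, v ∉ Sf → v ≠ v₀ → v.valuation k (Algebra.norm k (∑ i, x i • b i)) ≤ 1 ∧
        (v.valuation k (Algebra.norm k (∑ i, x i • b i)) = 1 ∨ Nonempty (L →ₐ[k] v.adicCompletion k)) := by
  classical
  let n := Module.finrank k L
  obtain ⟨θ, hθint, hθ⟩ := exists_primitive_integral (k := k) (L := L)
  let P := (finite_setOf_small (k := k) n).toFinset.filter (fun v => v ∉ Sf ∧ v ≠ v₀)
  obtain ⟨v₁, hv₁⟩ := exists_place_notMem (Sf ∪ {v₀} ∪ (finite_setOf_small (k := k) n).toFinset)
  simp only [Finset.mem_union, Finset.mem_singleton, Set.Finite.mem_toFinset, not_or] at hv₁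
  obtain ⟨⟨hv₁S, hv₁0⟩, hv₁n⟩ := hv₁
  have hv₁n' : n < Ideal.absNorm v₁.asIdeal := not_le.mp hv₁n
  have hθc : ∀ m, v₁.valuation k ((minpoly k θ).coeff m) ≤ 1 := by
    intro m
    have hθR : IsIntegral (v₁.valuation k).valuationSubring θ := hθint.tower_top
    rw [minpoly.isIntegrallyClosed_eq_field_fractions' k hθR, coeff_map]
    exact ((minpoly (v₁.valuation k).valuationSubring θ).coeff m).2
  obtain ⟨z, hz⟩ := exists_eval_unit v₁ (minpoly.monic (Algebra.IsIntegral.isIntegral (R := k) θ)) hθc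
    (by rw [natDegree_minpoly_of_adjoin hθ]; exact hv₁n')
  let θ' : L := θ - algebraMap k L (algebraMap (𝓞 k) k z)
  have hθ'n : v₁.valuation k (Algebra.norm k θ') = 1 := by rw [valuation_norm_sub v₁ hθ]; exact hz
  have hθ' := adjoin_sub_algebraMap hθ (algebraMap (𝓞 k) k z)
  haveI := finite_intermediateField (k := k) (L := L)
  haveI := Fintype.ofFinite {E : IntermediateField k L // E ≠ ⊤}
  have hφ : ∀ E : {E : IntermediateField k L // E ≠ ⊤},
      ∃ φ : L →ₗ[k] k, φ θ' ≠ 0 ∧ E.1.toSubalgebra.toSubmodule ≤ LinearMap.ker φ := by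
    intro E
    refine Submodule.exists_le_ker_of_notMem fun h => E.2 ?_
    exact top_le_iff.mp (hθ'.symm.le.trans (IntermediateField.adjoin_simple_le_iff.mpr h))
  choose φ hφ1 hφ2 using hφ
  have hφsum : ∀ E (A : Type u) [CommRing A] [Algebra k A] (x : ι → k),
      ∑ i, algebraMap k A (x i) * algebraMap k A (φ E (b i)) = algebraMap k A (φ E (∑ i, x i • b i)) := by
    intro E A _ _ x
    simp [map_sum, map_smul, smul_eq_mul]
  let W₁ : Set (ι → v₁.adicCompletion k) := {c | Valued.v (nm b _ c) = 1} ∩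
    ⋂ E : {E : IntermediateField k L // E ≠ ⊤}, {c | ∑ i, c i * algebraMap k _ (φ E (b i)) ≠ 0}
  let U₁ : (v : HeightOneSpectrum (𝓞 k)) → Set (ι → v.adicCompletion k) := fun v =>
    if v ∈ Sf then U v else if h : v = v₁ then h ▸ W₁ else {c | Valued.v (nm b _ c) = 1}
  have hU₁1 : U₁ v₁ = W₁ := by simp [U₁, hv₁S]
  have hUP : ∀ v ∈ P, U₁ v = {c | Valued.v (nm b _ c) = 1} := by
    intro v hv
    simp only [P, Finset.mem_filter, Set.Finite.mem_toFinset] at hv
    have hne : v ≠ v₁ := fun e => hv₁n (e ▸ hv.1)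
    simp [U₁, hv.2.1, hne]
  let E₁ := Sf ∪ P ∪ {v₁}
  have hv₀E : v₀ ∉ E₁ := by simp [E₁, P, hv₀, Ne.symm hv₁0]
  have hU₁ : ∀ v ∈ E₁, IsOpen (U₁ v) ∧ (U₁ v).Nonempty := by
    intro v hv
    simp only [E₁, Finset.mem_union, Finset.mem_singleton] at hv
    rcases hv with (hv | hv) | rfl
    · simpa [U₁, hv] using hU v hv
    · rw [hUP v hv]
      refine ⟨(isOpen_val_eq_one v).preimage (continuous_nm b _), ⟨fun i => algebraMap k _ (b.repr 1 i), ?_⟩⟩
      show Valued.v _ = 1
      rw [nm_algebraMap, b.sum_repr, map_one, map_one, map_one]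
    · rw [hU₁1]
      refine ⟨((isOpen_val_eq_one v).preimage (continuous_nm b _)).inter (isOpen_iInter_of_finite fun E =>
        isOpen_ne.preimage (continuous_finsetSum _ fun i _ => (continuous_apply i).mul continuous_const)),
        ⟨fun i => algebraMap k _ (b.repr θ' i), ?_, Set.mem_iInter.mpr fun E => ?_⟩⟩
      · show Valued.v _ = 1
        rw [nm_algebraMap, b.sum_repr, valued_algebraMap]
        exact hθ'n
      · show ∑ i, _ ≠ (0 : v.adicCompletion k)
        rw [hφsum E, b.sum_repr, _root_.map_ne_zero]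
        exact hφ1 E
  obtain ⟨x, hx1, hx2, hx3⟩ := SApproxLib.exists_strong_approx_pi v₀ E₁ hv₀E U₁ hU₁ V hV
  let y : L := ∑ i, x i • b i
  have hy : IntermediateField.adjoin k {y} = ⊤ := by
    by_contra hne
    have h := hx2 v₁ (by simp [E₁])
    rw [hU₁1] at h
    refine Set.mem_iInter.mp h.2 ⟨_, hne⟩ ?_
    rw [hφsum, LinearMap.mem_ker.mp (hφ2 ⟨_, hne⟩ (IntermediateField.mem_adjoin_simple_self k y)), map_zero]
  let f := minpoly k y
  have hfm : f.Monic := minpoly.monic (Algebra.IsIntegral.isIntegral y)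
  obtain ⟨a, c, hac⟩ : IsCoprime f (derivative f) := (Algebra.IsSeparable.isSeparable k y)
  let Bad : Set (HeightOneSpectrum (𝓞 k)) :=
    ⋃ q ∈ (↑(a.coeffs ∪ c.coeffs ∪ f.coeffs ∪ Finset.univ.image x) : Set k), {v | 1 < v.valuation k q}
  have hBad : Bad.Finite := Set.Finite.biUnion (Finset.finite_toSet _) fun q _ =>
    SApproxLib.finite_setOf_one_lt_valuation q
  have hgood : ∀ v ∉ Bad, ∀ q ∈ a.coeffs ∪ c.coeffs ∪ f.coeffs ∪ Finset.univ.image x, v.valuation k q ≤ 1 := by
    intro v hv q hq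
    simp only [Bad, Set.mem_iUnion, not_exists, Set.mem_ofPred_eq, not_lt] at hv
    exact hv q hq
  have hcoeff : ∀ {p : k[X]} {v : HeightOneSpectrum (𝓞 k)}, (∀ q ∈ p.coeffs, v.valuation k q ≤ 1) →
      ∀ m, v.valuation k (p.coeff m) ≤ 1 := by
    intro p v hp m
    by_cases h0 : p.coeff m = 0
    · simp [h0]
    · exact hp _ (coeff_mem_coeffs h0)
  let D := hBad.toFinset.filter (fun v => v ∉ E₁ ∧ v ≠ v₀)
  have hD : ∀ v ∈ D, ∃ z : 𝓞 k, v.valuation k (f.eval (algebraMap (𝓞 k) k z)) = 1 := by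
    intro v hv
    simp only [D, Finset.mem_filter] at hv
    have hvS : v ∉ Sf := fun h => hv.2.1 (by simp [E₁, h])
    have hi : ∀ i, v.valuation k (x i) ≤ 1 := fun i => hx1 v hv.2.1 hv.2.2 i
    refine exists_eval_unit v hfm (valuation_coeff_minpoly b v hb hi) ?_
    rw [natDegree_minpoly_of_adjoin hy]
    refine not_le.mp fun hle => hv.2.1 ?_
    simp only [E₁, Finset.mem_union]
    exact Or.inl (Or.inr (Finset.mem_filter.mpr ⟨(Set.Finite.mem_toFinset _).mpr hle, hvS, hv.2.2⟩))
  choose ζ hζ using hD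
  let e : ι → k := fun i => b.repr 1 i
  let sh : (A : Type u) → [CommRing A] → [Algebra k A] → A → ι → A := fun A _ _ s i =>
    algebraMap k A (x i) - s * algebraMap k A (e i)
  let U₂ : (v : HeightOneSpectrum (𝓞 k)) → Set (v.adicCompletion k) := fun v =>
    if v ∈ E₁ then sh _ ⁻¹' U₁ v else {s | Valued.v (nm b _ (sh _ s)) = 1}
  have hsh : ∀ v : HeightOneSpectrum (𝓞 k), Continuous (sh (v.adicCompletion k)) := fun v =>
    continuous_pi fun i => continuous_const.sub (continuous_id.mul continuous_const)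
  have hshalg : ∀ (A : Type u) [CommRing A] [Algebra k A] (s : k),
      sh A (algebraMap k A s) = fun i => algebraMap k A (x i - s * e i) := fun A _ _ s => by
    funext i; simp [sh]
  have hsum : ∀ s : k, ∑ i, (x i - s * e i) • b i = y - algebraMap k L s := by
    intro s
    simp only [sub_smul, Finset.sum_sub_distrib, mul_smul, ← Finset.smul_sum, e, b.sum_repr]
    rw [← Algebra.algebraMap_eq_smul_one]
  have hv₀E₂ : v₀ ∉ E₁ ∪ D := by simp [D, hv₀E]
  have hU₂ : ∀ v ∈ E₁ ∪ D, IsOpen (U₂ v) ∧ (U₂ v).Nonempty := by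
    intro v hv
    by_cases h1 : v ∈ E₁
    · simp only [U₂, h1, if_true]
      refine ⟨(hU₁ v h1).1.preimage (hsh v), ⟨algebraMap k _ 0, ?_⟩⟩
      show sh _ (algebraMap k _ 0) ∈ U₁ v
      rw [hshalg]
      simpa using hx2 v h1
    · simp only [Finset.mem_union, h1, false_or] at hv
      simp only [U₂, h1, if_false]
      refine ⟨((isOpen_val_eq_one v).preimage (continuous_nm b _)).preimage (hsh v),
        ⟨algebraMap k _ (algebraMap (𝓞 k) k (ζ v hv)), ?_⟩⟩
      show Valued.v (nm b _ (sh _ _)) = 1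
      rw [hshalg, nm_algebraMap, hsum, valued_algebraMap, valuation_norm_sub v hy]
      exact hζ v hv
  let V₂ : (w : InfinitePlace k) → Set w.Completion := fun w => sh _ ⁻¹' V w
  have hV₂ : ∀ w, IsOpen (V₂ w) ∧ (V₂ w).Nonempty := fun w =>
    ⟨(hV w).1.preimage (continuous_pi fun i => continuous_const.sub (continuous_id.mul continuous_const)),
      ⟨algebraMap k _ 0, by show sh _ _ ∈ V w; rw [hshalg]; simpa using hx3 w⟩⟩
  obtain ⟨s, hs1, hs2, hs3⟩ := SApproxLib.exists_strong_approx v₀ (E₁ ∪ D) hv₀E₂ U₂ hU₂ V₂ hV₂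
  have hs2' : ∀ v ∈ E₁, (fun i => algebraMap k (v.adicCompletion k) (x i - s * e i)) ∈ U₁ v := by
    intro v hv
    have h := hs2 v (Finset.mem_union_left _ hv)
    simp only [U₂, hv, if_true, Set.mem_preimage, hshalg] at h
    exact h
  have hunit : ∀ v, v ∈ P ∪ {v₁} ∪ D → v.valuation k (Algebra.norm k (y - algebraMap k L s)) = 1 := by
    intro v hv
    rw [← valued_algebraMap, ← hsum, ← nm_algebraMap b]
    simp only [Finset.mem_union, Finset.mem_singleton] at hv
    rcases hv with (hv | rfl) | hv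
    · have h := hs2' v (by simp [E₁, hv])
      rw [hUP v hv] at h
      exact h
    · have h := hs2' v (by simp [E₁])
      rw [hU₁1] at h
      exact h.1
    · have h := hs2 v (Finset.mem_union_right _ hv)
      have h1 : v ∉ E₁ := (Finset.mem_filter.mp hv).2.1
      simp only [U₂, h1, if_false, Set.mem_ofPred_eq, hshalg] at h
      exact h
  refine ⟨fun i => x i - s * e i, ?_, ?_, fun w => ?_, fun v hv hv0 => ?_⟩
  · rw [hsum]
    intro h0
    have h := hunit v₁ (by simp)
    rw [h0, map_zero] at h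
    exact zero_ne_one h
  · intro v hv
    have h := hs2' v (by simp [E₁, hv])
    simpa [U₁, hv] using h
  · have h := hs3 w
    simp only [V₂, Set.mem_preimage, hshalg] at h
    exact h
  · rw [hsum]
    by_cases hvE : v ∈ P ∪ {v₁} ∪ D
    · exact ⟨(hunit v hvE).le, Or.inl (hunit v hvE)⟩
    have hvE₁ : v ∉ E₁ := by
      simp only [E₁, Finset.mem_union] at hvE ⊢
      tauto
    have hvD : v ∉ D := fun h => hvE (by simp [h])
    have hvB : v ∉ Bad := fun h => hvD (Finset.mem_filter.mpr ⟨hBad.mem_toFinset.mpr h, hvE₁, hv0⟩)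
    have hs : v.valuation k s ≤ 1 := hs1 v (fun h => by
      rcases Finset.mem_union.mp h with h | h
      · exact hvE₁ h
      · exact hvD h) hv0
    have hfi : ∀ m, v.valuation k (f.coeff m) ≤ 1 := hcoeff fun q hq => hgood v hvB q (by simp [hq])
    rw [valuation_norm_sub v hy]
    refine ⟨eval_integral v hfi hs, ?_⟩
    rcases eq_or_lt_of_le (eval_integral v hfi hs) with h1 | h1
    · exact Or.inl h1
    · obtain ⟨r, hr⟩ := exists_root_of_bezout v hfm hfi (hcoeff fun q hq => hgood v hvB q (by simp [hq]))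
        (hcoeff fun q hq => hgood v hvB q (by simp [hq])) hac hs h1
      exact Or.inr (nonempty_algHom_of_root v hy hr)

end NFFibLib
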