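import Groth.Agent.NFFibLib.Local
import Mathlib.NumberTheory.NumberField.Norm
import Mathlib.RingTheory.RamificationInertia.Ramification

/-!
# Norms are dense in the units at an unramified finite place
-/

set_option autoImplicit false
set_option linter.style.haveILetI false
set_option linter.unusedSectionVars false

universe u

open NumberField IsDedekindDomain WithZero

namespace NFFibLib

variable {K L : Type u} [Field K] [NumberField K] [Field L] [NumberField L] [Algebra K L]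

theorem exists_norm_near_integral (W : HeightOneSpectrum (𝓞 K))
    (hram : ∀ Q : Ideal (𝓞 L), Q.IsPrime → Q ≠ ⊥ → Q.LiesOver W.asIdeal → Q.ramificationIdx (𝓞 K) = 1)
    {c : K} (hc : W.valuation K c = 1) (N : ℕ) :
    ∃ b : 𝓞 L, algebraMap (𝓞 L) L b ≠ 0 ∧
      W.valuation K (Algebra.norm K (algebraMap (𝓞 L) L b) - c) ≤ exp (-(N : ℤ)) := by
  classical
  haveI : FiniteDimensional K L := Module.Finite.of_restrictScalars_finite ℚ K L
  obtain ⟨x, hx1, hx2⟩ := SApproxLib.exists_global_approx {W} (fun _ => c) (fun _ => N + 1)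
  have hxW : W.valuation K (x - c) ≤ exp (-((N + 1 : ℕ) : ℤ)) := hx2 W (Finset.mem_singleton_self W)
  have hlt : exp (-((N + 1 : ℕ) : ℤ)) < (1 : WithZero (Multiplicative ℤ)) :=
    (exp_lt_exp.mpr (by omega : (-((N + 1 : ℕ) : ℤ)) < 0)).trans_eq exp_zero
  have hxv : W.valuation K x = 1 := by
    rw [← sub_add_cancel x c, Valuation.map_add_eq_of_lt_right _ (by rw [hc]; exact hxW.trans_lt hlt), hc]
  obtain ⟨r, rfl⟩ := HeightOneSpectrum.mem_integers_of_valuation_le_one K x (fun v => by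
    by_cases hv : v = W
    · rw [hv, hxv]
    · exact hx1 v (by simpa using hv))
  have hr : r ∉ W.asIdeal := (HeightOneSpectrum.valuation_eq_one_iff_notMem _).mp hxv
  haveI := W.isMaximal
  haveI : Finite (𝓞 K ⧸ W.asIdeal) := Ideal.finiteQuotientOfFreeOfNeBot _ W.ne_bot
  have hmap : Ideal.map (algebraMap (𝓞 K) (𝓞 L)) W.asIdeal ≠ ⊥ :=
    (Ideal.map_eq_bot_iff_of_injective (FaithfulSMul.algebraMap_injective (𝓞 K) (𝓞 L))).not.mpr W.ne_bot
  have hne : Ideal.map (algebraMap (𝓞 K) (𝓞 L)) W.asIdeal ≠ ⊤ := by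
    intro h
    obtain ⟨Q, hQ, hQo⟩ := Ideal.exists_maximal_ideal_liesOver_of_isIntegral (S := 𝓞 L) W.asIdeal
    exact hQ.ne_top (top_le_iff.mp (h ▸ Ideal.map_le_iff_le_comap.mpr (hQo.over).le))
  obtain ⟨P, hP, hle⟩ := Ideal.exists_le_maximal _ hne
  haveI := hP
  have hP0 : P ≠ ⊥ := fun h => hmap (le_bot_iff.mp (h ▸ hle))
  haveI : P.LiesOver W.asIdeal := ⟨W.isMaximal.eq_of_le (Ideal.IsPrime.under (𝓞 K) P).ne_top
    (Ideal.map_le_iff_le_comap.mp hle)⟩
  obtain ⟨Q, hPQ, hfac⟩ := Ideal.eq_prime_pow_mul_coprime hmap P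
  rw [← Ideal.IsDedekindDomain.ramificationIdx_eq_normalizedFactors_count W.asIdeal P hmap,
    hram P hP.isPrime hP0 inferInstance, pow_one] at hfac
  obtain ⟨b, hb⟩ := exists_intNorm_sub_mem W.asIdeal W.ne_bot P Q (Ideal.isCoprime_iff_sup_eq.mpr hPQ) hfac hr (N + 1)
  have hnorm : algebraMap (𝓞 K) K (Algebra.intNorm (𝓞 K) (𝓞 L) b) = Algebra.norm K (algebraMap (𝓞 L) L b) :=
    Algebra.algebraMap_intNorm b
  have hv : W.valuation K (Algebra.norm K (algebraMap (𝓞 L) L b) - algebraMap (𝓞 K) K r) ≤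
      exp (-((N + 1 : ℕ) : ℤ)) := by
    rw [← hnorm, ← map_sub, HeightOneSpectrum.valuation_of_algebraMap]
    exact (W.intValuation_le_pow_iff_mem _ _).mpr hb
  refine ⟨b, fun h0 => ?_, ?_⟩
  · rw [h0, Algebra.norm_zero, zero_sub, Valuation.map_neg, hxv] at hv
    exact absurd hv (not_le.mpr hlt)
  · calc W.valuation K (Algebra.norm K (algebraMap (𝓞 L) L b) - c)
        = W.valuation K ((Algebra.norm K (algebraMap (𝓞 L) L b) - algebraMap (𝓞 K) K r) +
            (algebraMap (𝓞 K) K r - c)) := by rw [sub_add_sub_cancel]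
      _ ≤ exp (-((N + 1 : ℕ) : ℤ)) := (Valuation.map_add _ _ _).trans (max_le hv hxW)
      _ ≤ exp (-(N : ℤ)) := exp_le_exp.mpr (by omega)

theorem exists_norm_near (W : HeightOneSpectrum (𝓞 K))
    (hram : ∀ Q : Ideal (𝓞 L), Q.IsPrime → Q ≠ ⊥ → Q.LiesOver W.asIdeal → Q.ramificationIdx (𝓞 K) = 1)
    {c : K} (hc : W.valuation K c = 1) (N : ℕ) :
    ∃ z : L, z ≠ 0 ∧ W.valuation K (Algebra.norm K z - c) ≤ exp (-(N : ℤ)) := by
  obtain ⟨b, hb⟩ := exists_norm_near_integral W hram hc N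
  exact ⟨_, hb⟩

end NFFibLib
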