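import Groth.Agent.NFFibLib.Near
import Mathlib.NumberTheory.NumberField.Norm
import Mathlib.NumberTheory.NumberField.Units.Basic
import Mathlib.RingTheory.Polynomial.IntegralNormalization

/-!
# Existence of places of degree one
-/

set_option autoImplicit false
set_option linter.style.haveILetI false

universe u

open NumberField IsDedekindDomain Polynomial

namespace NFFibLib

variable {k : Type u} [Field k] [NumberField k]

theorem prod_embeddings_sq_of_isUnit {e : 𝓞 k} (he : IsUnit e) :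
    (∏ σ : k →ₐ[ℚ] ℂ, σ (e : k)) ^ 2 = 1 := by
  rw [← Algebra.norm_eq_prod_embeddings]
  have h := (NumberField.isUnit_iff_norm).mp he
  rw [RingOfIntegers.coe_norm] at h
  have h2 : (Algebra.norm ℚ (e : k)) ^ 2 = 1 := by rw [← sq_abs, h, one_pow]
  rw [← map_pow, h2, map_one]

/-- Values of a monic polynomial meet infinitely many primes. -/
theorem exists_place_eval_mem {g : (𝓞 k)[X]} (hg : g.Monic) (hdeg : 0 < g.natDegree)
    (B : Finset (HeightOneSpectrum (𝓞 k))) :
    ∃ v ∉ B, ∃ z : 𝓞 k, g.eval z ∈ v.asIdeal := by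
  classical
  obtain ⟨z₀, hz₀⟩ : ∃ z₀ : 𝓞 k, g.eval z₀ ≠ 0 := by
    obtain ⟨z₀, hz₀⟩ := Infinite.exists_notMem_finset g.roots.toFinset
    refine ⟨z₀, fun h => hz₀ ?_⟩
    rw [Multiset.mem_toFinset, mem_roots hg.ne_zero]
    exact h
  by_contra hc
  push Not at hc
  obtain ⟨c, hc0⟩ : ∃ c, c = g.eval z₀ := ⟨_, rfl⟩
  obtain ⟨M, hM0, hM⟩ : ∃ M : ℕ, M ≠ 0 ∧ ∀ v ∈ B, (M : 𝓞 k) ∈ v.asIdeal := by
    refine ⟨∏ v ∈ B, Ideal.absNorm v.asIdeal,
      Finset.prod_ne_zero_iff.mpr fun v _ h => v.ne_bot (Ideal.absNorm_eq_zero_iff.mp h), fun v hv => ?_⟩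
    rw [Nat.cast_prod, ← Finset.mul_prod_erase _ _ hv]
    exact Ideal.mul_mem_right _ _ (Ideal.absNorm_mem v.asIdeal)
  let lin : (𝓞 k)[X] := C (c * M) * X + C z₀
  let h := g.comp lin
  have hu : ∀ s : ℕ, ∃ e : 𝓞 k, IsUnit e ∧ h.eval (s : 𝓞 k) = c * e := by
    intro s
    obtain ⟨q, hq⟩ := g.sub_dvd_eval_sub (c * M * s + z₀) z₀
    refine ⟨1 + (M : 𝓞 k) * s * q, ?_, ?_⟩
    · by_contra hnu
      obtain ⟨m, hm, hle⟩ := Ideal.exists_le_maximal _ (fun ht => hnu (Ideal.span_singleton_eq_top.mp ht))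
      have hem := hle (Ideal.mem_span_singleton_self (1 + (M : 𝓞 k) * s * q))
      have hm0 : m ≠ ⊥ := fun hb => by
        have h1 := congrArg (fun I : Ideal (𝓞 k) => I) hb
        subst hb
        exact Ring.ne_bot_of_isMaximal_of_not_isField hm (RingOfIntegers.not_isField k) rfl
      by_cases hB : (⟨m, hm.isPrime, hm0⟩ : HeightOneSpectrum (𝓞 k)) ∈ B
      · have h1 : (M : 𝓞 k) ∈ m := hM _ hB
        refine hm.ne_top ((Ideal.eq_top_iff_one m).mpr ?_)
        have h2 := sub_mem hem (Ideal.mul_mem_right q m (Ideal.mul_mem_right (s : 𝓞 k) m h1))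
        rwa [add_sub_cancel_right] at h2
      · refine hc _ hB (c * M * s + z₀) ?_
        have h1 : g.eval (c * M * s + z₀) = c * (1 + (M : 𝓞 k) * s * q) := by
          rw [eq_add_of_sub_eq hq, ← hc0]; ring
        rw [h1]
        exact Ideal.mul_mem_left _ _ hem
    · simp only [h, lin, eval_comp, eval_add, eval_mul, eval_C, eval_X]
      rw [eq_add_of_sub_eq hq, ← hc0]; ring
  have hlin : lin.natDegree = 1 := natDegree_linear (mul_ne_zero (hc0 ▸ hz₀) (Nat.cast_ne_zero.mpr hM0))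
  have hdh : 0 < h.natDegree := by rw [natDegree_comp, hlin, mul_one]; exact hdeg
  let φ : (k →ₐ[ℚ] ℂ) → (𝓞 k →+* ℂ) := fun σ => σ.toRingHom.comp (algebraMap (𝓞 k) k)
  have hφ : ∀ σ, Function.Injective (φ σ) := fun σ =>
    σ.toRingHom.injective.comp (FaithfulSMul.algebraMap_injective (𝓞 k) k)
  let P : ℂ[X] := ∏ σ, h.map (φ σ)
  have hP : 0 < P.natDegree := by
    rw [natDegree_prod _ _ fun σ _ => (Polynomial.map_ne_zero_iff (hφ σ)).mpr fun h0 => by simp [h0] at hdh]
    simp only [natDegree_map_eq_of_injective (hφ _)]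
    rw [Finset.sum_const, smul_eq_mul]
    refine Nat.mul_pos (Finset.card_pos.mpr ?_) hdh
    rw [← Finset.card_pos, Finset.card_univ, AlgHom.card]
    exact Module.finrank_pos
  let N : ℂ := ∏ σ : k →ₐ[ℚ] ℂ, φ σ c
  have hval : ∀ s : ℕ, (P ^ 2 - C (N ^ 2)).IsRoot (s : ℂ) := by
    intro s
    obtain ⟨e, he, hse⟩ := hu s
    have h1 : P.eval (s : ℂ) = N * ∏ σ : k →ₐ[ℚ] ℂ, σ (e : k) := by
      rw [eval_prod, ← Finset.prod_mul_distrib]
      refine Finset.prod_congr rfl fun σ _ => ?_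
      rw [eval_map, show ((s : ℂ)) = φ σ (s : 𝓞 k) from (map_natCast (φ σ) s).symm, eval₂_at_apply, hse, map_mul]
      rfl
    rw [IsRoot, eval_sub, eval_pow, eval_C, h1, mul_pow, prod_embeddings_sq_of_isUnit he, mul_one, sub_self]
  have hzero : P ^ 2 - C (N ^ 2) = 0 :=
    eq_zero_of_infinite_isRoot _ (Set.Infinite.mono (by rintro _ ⟨s, rfl⟩; exact hval s)
      (Set.infinite_range_of_injective Nat.cast_injective))
  have h2 := congrArg natDegree (sub_eq_zero.mp hzero)
  rw [natDegree_pow, natDegree_C] at h2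
  omega

variable {L : Type u} [Field L] [NumberField L] [Algebra k L] [FiniteDimensional k L]

/-- There are places of degree one outside any finite set. -/
theorem exists_place_algHom (B : Finset (HeightOneSpectrum (𝓞 k))) :
    ∃ v ∉ B, Nonempty (L →ₐ[k] v.adicCompletion k) := by
  classical
  obtain ⟨θ, hθi, hθ⟩ := exists_primitive_integral (k := k) (L := L)
  have hθO : IsIntegral (𝓞 k) θ := hθi.tower_top
  obtain ⟨g, hg, hgm⟩ : ∃ g : (𝓞 k)[X], g.map (algebraMap (𝓞 k) k) = minpoly k θ ∧ g.Monic :=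
    ⟨minpoly (𝓞 k) θ, (minpoly.isIntegrallyClosed_eq_field_fractions' k hθO).symm, minpoly.monic hθO⟩
  have hfm : (minpoly k θ).Monic := hg ▸ hgm.map _
  obtain ⟨a, c, hac⟩ : IsCoprime (minpoly k θ) (derivative (minpoly k θ)) := Algebra.IsSeparable.isSeparable k θ
  let Bad : Set (HeightOneSpectrum (𝓞 k)) :=
    ⋃ q ∈ (↑(a.coeffs ∪ c.coeffs) : Set k), {v | 1 < v.valuation k q}
  have hBad : Bad.Finite := Set.Finite.biUnion (Finset.finite_toSet _) fun q _ =>
    SApproxLib.finite_setOf_one_lt_valuation q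
  have hdeg : 0 < g.natDegree := by
    rw [← hgm.natDegree_map (algebraMap (𝓞 k) k), hg]
    exact minpoly.natDegree_pos (Algebra.IsIntegral.isIntegral θ)
  obtain ⟨v, hv, z, hz⟩ := exists_place_eval_mem hgm hdeg (B ∪ hBad.toFinset)
  rw [Finset.mem_union, not_or, Set.Finite.mem_toFinset] at hv
  refine ⟨v, hv.1, ?_⟩
  have hcoeff : ∀ p : k[X], p.coeffs ⊆ a.coeffs ∪ c.coeffs → ∀ m, v.valuation k (p.coeff m) ≤ 1 := by
    intro p hp m
    by_cases h0 : p.coeff m = 0
    · simp [h0]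
    · have h := hv.2
      simp only [Bad, Set.mem_iUnion, not_exists, Set.mem_ofPred_eq, not_lt] at h
      exact h _ (hp (coeff_mem_coeffs h0))
  have hfi : ∀ m, v.valuation k ((minpoly k θ).coeff m) ≤ 1 := fun m => by
    rw [← hg, coeff_map]; exact v.valuation_le_one _
  have hfz : v.valuation k ((minpoly k θ).eval (algebraMap (𝓞 k) k z)) < 1 := by
    rw [← hg, eval_map, eval₂_at_apply]
    exact (v.valuation_lt_one_iff_mem _).mpr hz
  obtain ⟨r, hr⟩ := exists_root_of_bezout v hfm hfi (hcoeff a Finset.subset_union_left)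
    (hcoeff c Finset.subset_union_right) hac (v.valuation_le_one z) hfz
  exact nonempty_algHom_of_root v hθ hr

end NFFibLib
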