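import Groth.Agent.NFFibLib.Main
import Groth.Agent.NFFibLib.Over
import Groth.Agent.NFFibLib.Coords
import Groth.Agent.NFFibLib.NormUnit

/-!
# Approximation by norms in a tower
-/

set_option autoImplicit false
set_option linter.style.haveILetI false
set_option maxHeartbeats 800000

universe u

open NumberField IsDedekindDomain WithZero
open scoped TensorProduct

namespace NFFibLib

attribute [local instance] bcAlg

variable {k K L : Type u} [Field k] [NumberField k] [Field K] [NumberField K] [Algebra k K]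
  [Field L] [NumberField L] [Algebra K L] {κ : Type} [Fintype κ] [DecidableEq κ] (bK : Module.Basis κ k K)

theorem isOpen_ball_le (W : HeightOneSpectrum (𝓞 K)) (c : W.adicCompletion K) (n : ℤ) :
    IsOpen {x : W.adicCompletion K | Valued.v (x - c) ≤ exp n} := by
  obtain ⟨a, ha⟩ := exists_val_eq W n
  have : {x : W.adicCompletion K | Valued.v (x - c) ≤ exp n} = (fun x => (x - c) * a⁻¹) ⁻¹'
      ((Valued.v : Valuation (W.adicCompletion K) ℤᵐ⁰).valuationSubring : Set (W.adicCompletion K)) := by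
    ext x
    simp only [Set.mem_ofPred_eq, Set.mem_preimage, SetLike.mem_coe, Valuation.mem_valuationSubring_iff, map_mul,
      map_inv₀, ha]
    rw [mul_inv_le_iff₀ (zero_lt_iff.mpr exp_ne_zero), one_mul]
  rw [this]
  exact (Valued.isOpen_valuationSubring _).preimage ((continuous_id.sub continuous_const).mul continuous_const)

theorem exists_norm_witness (A : Type u) [CommRing A] [Algebra K A] (z : L) :
    ∃ x : A ⊗[K] L, Algebra.norm A x = algebraMap K A (Algebra.norm K z) := by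
  haveI : FiniteDimensional K L := Module.Finite.of_restrictScalars_finite ℚ K L
  obtain ⟨n, b, -⟩ := exists_basis_isIntegral K L
  exact ⟨∑ i, algebraMap K A (b.repr z i) ⊗ₜ[K] b i,
    by rw [← nm_eq_norm, nm_algebraMap, b.sum_repr]⟩

/-- Elements near a global norm, units outside away from places of degree one. -/
theorem exists_near_over (z₀ : L) (Sf : Finset (HeightOneSpectrum (𝓞 k)))
    (Vf : (v : HeightOneSpectrum (𝓞 k)) → Set (κ → v.adicCompletion k))
    (hVf : ∀ v ∈ Sf, IsOpen (Vf v) ∧ (fun j => algebraMap k _ (bK.repr (Algebra.norm K z₀) j)) ∈ Vf v)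
    (Vi : (w : InfinitePlace k) → Set (κ → w.Completion))
    (hVi : ∀ w, IsOpen (Vi w) ∧ (fun j => algebraMap k _ (bK.repr (Algebra.norm K z₀) j)) ∈ Vi w)
    (T : Finset (HeightOneSpectrum (𝓞 K))) (hT : ∀ W ∈ T, ∀ v ∈ Sf, ¬ W.asIdeal.LiesOver v.asIdeal)
    (zT : HeightOneSpectrum (𝓞 K) → L) (NT : HeightOneSpectrum (𝓞 K) → ℕ)
    (W₀ : HeightOneSpectrum (𝓞 K)) (hW₀S : ∀ v ∈ Sf, ¬ W₀.asIdeal.LiesOver v.asIdeal) (hW₀T : W₀ ∉ T) :
    ∃ u : K, u ≠ 0 ∧ (∀ v ∈ Sf, (fun j => algebraMap k (v.adicCompletion k) (bK.repr u j)) ∈ Vf v) ∧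
      (∀ w, (fun j => algebraMap k (w : InfinitePlace k).Completion (bK.repr u j)) ∈ Vi w) ∧
      (∀ W ∈ T, W.valuation K (u - Algebra.norm K (zT W)) ≤ exp (-(NT W : ℤ))) ∧
      ∀ W : HeightOneSpectrum (𝓞 K), (∀ v ∈ Sf, ¬ W.asIdeal.LiesOver v.asIdeal) → W ∉ T → W ≠ W₀ →
        W.valuation K u ≤ 1 ∧ (W.valuation K u = 1 ∨ Nonempty (L →ₐ[K] W.adicCompletion K)) := by
  classical
  let u₀ := Algebra.norm K z₀
  have hN : ∀ v : HeightOneSpectrum (𝓞 k), ∃ N : ℕ, v ∈ Sf → ∀ u : K,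
      (∀ W : HeightOneSpectrum (𝓞 K), W.asIdeal.LiesOver v.asIdeal → W.valuation K (u - u₀) ≤ exp (-(N : ℤ))) →
      (fun j => algebraMap k (v.adicCompletion k) (bK.repr u j)) ∈ Vf v := fun v => by
    by_cases hv : v ∈ Sf
    · obtain ⟨N, hN⟩ := exists_coord_bound bK v (hVf v hv).1 (hVf v hv).2
      exact ⟨N, fun _ => hN⟩
    · exact ⟨0, fun h => absurd h hv⟩
  choose N hN using hN
  choose ε hε0 hε using fun w : InfinitePlace k => exists_coord_bound_infinite bK w (hVi w).1 (hVi w).2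
  obtain ⟨δ, hδ, hδ0⟩ := ((Filter.eventually_all.mpr fun w : InfinitePlace k =>
    Ioo_mem_nhdsGT (hε0 w)).and (self_mem_nhdsWithin (a := (0 : ℝ)) (s := Set.Ioi 0))).exists
  let M : ℕ := Sf.sup N
  let SK := (finite_over (K := K) Sf).toFinset
  have hSK : ∀ W, W ∈ SK ↔ ∃ v ∈ Sf, W.asIdeal.LiesOver v.asIdeal := fun W => Set.Finite.mem_toFinset _
  let tgt : HeightOneSpectrum (𝓞 K) → K := fun W => if W ∈ T then Algebra.norm K (zT W) else u₀
  let nn : HeightOneSpectrum (𝓞 K) → ℕ := fun W => if W ∈ T then NT W else M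
  have hW₀ : W₀ ∉ SK ∪ T := by
    rw [Finset.mem_union, hSK]
    rintro (⟨v, hv, h⟩ | h)
    · exact hW₀S v hv h
    · exact hW₀T h
  obtain ⟨u, hu0, huf, hui, hu⟩ := exists_near_integral (L := L) (SK ∪ T) Finset.univ
    (fun W => algebraMap K (W.adicCompletion K) (tgt W)) (fun w => algebraMap K w.Completion u₀)
    (fun W _ => by
      by_cases hW : W ∈ T
      · simp only [tgt, hW, if_true]
        exact exists_norm_witness _ _
      · simp only [tgt, hW, if_false]
        exact exists_norm_witness _ _)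
    (fun w _ => exists_norm_witness _ _)
    (fun W => {x | Valued.v (x - algebraMap K (W.adicCompletion K) (tgt W)) ≤ exp (-(nn W : ℤ))})
    (fun W _ => ⟨isOpen_ball_le W _ _, by simp⟩)
    (fun w => Metric.ball (algebraMap K w.Completion u₀) δ)
    (fun w _ => ⟨Metric.isOpen_ball, Metric.mem_ball_self hδ0⟩) W₀ hW₀
  have hval : ∀ W ∈ SK ∪ T, W.valuation K (u - tgt W) ≤ exp (-(nn W : ℤ)) := fun W hW => by
    rw [← valued_algebraMap, map_sub]
    exact huf W hW
  refine ⟨u, hu0, fun v hv => hN v hv u fun W hW => ?_, fun w => hε w u fun w' => ?_, fun W hW => ?_,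
    fun W h1 h2 h3 => hu W ?_ h3⟩
  · have hWT : W ∉ T := fun h => hT W h v hv hW
    have h := hval W (Finset.mem_union_left _ ((hSK W).mpr ⟨v, hv, hW⟩))
    simp only [tgt, nn, hWT, if_false] at h
    exact h.trans (exp_le_exp.mpr (by have := Finset.le_sup (f := N) hv; omega))
  · have h := hui w' (Finset.mem_univ w')
    rw [Metric.mem_ball, dist_eq_norm, ← map_sub, InfinitePlace.Completion.algebraMap_apply,
      InfinitePlace.Completion.norm_coe] at h
    exact h.trans (hδ w).2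
  · have h := hval W (Finset.mem_union_right _ hW)
    simpa only [tgt, nn, hW, if_true] using h
  · rw [Finset.mem_union, hSK]
    rintro (⟨v, hv, h⟩ | h)
    · exact h1 v hv h
    · exact h2 h

variable [Algebra k L] [IsScalarTower k K L]


theorem exists_witness_one_tmul (F : Type u) [CommRing F] [Algebra k F] (z : L) :
    ∃ x : F ⊗[k] L, Algebra.norm (F ⊗[k] K) x = (1 : F) ⊗ₜ[k] Algebra.norm K z := by
  obtain ⟨n, bL, -⟩ := exists_basis_isIntegral K L
  haveI : FiniteDimensional k K := Module.Finite.of_restrictScalars_finite ℚ k K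
  exact ⟨_, norm_one_tmul (Module.finBasis k K) bL F z⟩

/-- A global element with norm near prescribed local norms. -/
theorem exists_global_norm (Sf : Finset (HeightOneSpectrum (𝓞 k)))
    (Vf : (v : HeightOneSpectrum (𝓞 k)) → Set (κ → v.adicCompletion k))
    (hVf : ∀ v ∈ Sf, IsOpen (Vf v) ∧ ∃ x : v.adicCompletion k ⊗[k] L,
      ⇑((Algebra.TensorProduct.basis _ bK).repr (Algebra.norm (v.adicCompletion k ⊗[k] K) x)) ∈ Vf v)
    (Vi : (w : InfinitePlace k) → Set (κ → w.Completion))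
    (hVi : ∀ w, IsOpen (Vi w) ∧ ∃ x : (w : InfinitePlace k).Completion ⊗[k] L,
      ⇑((Algebra.TensorProduct.basis _ bK).repr (Algebra.norm (w.Completion ⊗[k] K) x)) ∈ Vi w) :
    ∃ z : L, (∀ v ∈ Sf, (fun j => algebraMap k (v.adicCompletion k) (bK.repr (Algebra.norm K z) j)) ∈ Vf v) ∧
      ∀ w, (fun j => algebraMap k (w : InfinitePlace k).Completion (bK.repr (Algebra.norm K z) j)) ∈ Vi w := by
  classical
  obtain ⟨n, bL, -⟩ := exists_basis_isIntegral K L
  obtain ⟨v₀, hv₀⟩ := exists_place_notMem Sf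
  have hO : ∀ v : HeightOneSpectrum (𝓞 k), ∃ O : Set (Fin n × κ → v.adicCompletion k), v ∈ Sf →
      IsOpen O ∧ O.Nonempty ∧ ∀ z : Fin n × κ → k, (fun p => algebraMap k _ (z p)) ∈ O →
        (fun m => algebraMap k (v.adicCompletion k)
          (bK.repr (Algebra.norm K (∑ i, (∑ m, z (i, m) • bK m) • bL i)) m)) ∈ Vf v := fun v => by
    by_cases hv : v ∈ Sf
    · obtain ⟨x, hx⟩ := (hVf v hv).2
      obtain ⟨O, hO⟩ := exists_open_coords bK bL _ (Vf v) (hVf v hv).1 x hx
      exact ⟨O, fun _ => hO⟩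
    · exact ⟨∅, fun h => absurd h hv⟩
  choose O hO using hO
  have hP : ∀ w : InfinitePlace k, ∃ O : Set (Fin n × κ → w.Completion),
      IsOpen O ∧ O.Nonempty ∧ ∀ z : Fin n × κ → k, (fun p => algebraMap k _ (z p)) ∈ O →
        (fun m => algebraMap k w.Completion
          (bK.repr (Algebra.norm K (∑ i, (∑ m, z (i, m) • bK m) • bL i)) m)) ∈ Vi w := fun w => by
    obtain ⟨x, hx⟩ := (hVi w).2
    exact exists_open_coords bK bL _ (Vi w) (hVi w).1 x hx
  choose P hP using hP
  obtain ⟨c, -, hc1, hc2⟩ := SApproxLib.exists_strong_approx_pi v₀ Sf hv₀ O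
    (fun v hv => ⟨(hO v hv).1, (hO v hv).2.1⟩) P (fun w => ⟨(hP w).1, (hP w).2.1⟩)
  exact ⟨∑ i, (∑ m, c (i, m) • bK m) • bL i, fun v hv => (hO v hv).2.2 c (hc1 v hv),
    fun w => (hP w).2.2 c (hc2 w)⟩

end NFFibLib
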