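import Groth.Agent.NFFibLib.Tool
import Mathlib.LinearAlgebra.Determinant
import Mathlib.Topology.UniformSpace.Cauchy
import Mathlib.Topology.Algebra.IsUniformGroup.Basic

/-!
# Units are norms from unramified extensions of completions
-/

set_option autoImplicit false
set_option linter.style.haveILetI false
set_option maxHeartbeats 1000000

universe u

open NumberField IsDedekindDomain WithZero
open scoped TensorProduct Pointwise Topology

namespace NFFibLib

variable {k : Type u} [Field k] [NumberField k] (v : HeightOneSpectrum (𝓞 k))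

theorem exists_exp_subset_nhds {U : Set (v.adicCompletion k)} {c : v.adicCompletion k} (hU : U ∈ 𝓝 c) :
    ∃ N : ℕ, ∀ z : v.adicCompletion k, Valued.v (z - c) ≤ exp (-(N : ℤ)) → z ∈ U := by
  obtain ⟨γ, hγ⟩ := Valued.mem_nhds.mp hU
  have hne : MonoidWithZeroHom.ValueGroup₀.embedding γ.val ≠ 0 := by simp
  obtain ⟨N, hN⟩ := SApproxLib.exists_exp_lt hne
  refine ⟨N, fun z hz => hγ ?_⟩
  rw [Set.mem_ofPred_eq, Valuation.restrict_lt_iff_lt_embedding]
  exact lt_of_le_of_lt hz hN

theorem isCompact_ball_one : IsCompact {x : v.adicCompletion k | Valued.v x ≤ 1} := by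
  classical
  refine TotallyBounded.isCompact_of_isClosed ?_ (by simpa using isClosed_ball_exp v 0)
  rw [totallyBounded_iff_subset_finite_iUnion_nhds_zero]
  intro U hU
  obtain ⟨N, hN⟩ := exists_exp_subset_nhds v hU
  haveI : Finite (𝓞 k ⧸ v.asIdeal ^ N) := Ideal.finiteQuotientOfFreeOfNeBot _ (pow_ne_zero N v.ne_bot)
  choose s hs using Ideal.Quotient.mk_surjective (I := v.asIdeal ^ N)
  refine ⟨Set.range fun q => algebraMap k (v.adicCompletion k) (algebraMap (𝓞 k) k (s q)), Set.finite_range _,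
    fun x hx => ?_⟩
  obtain ⟨y, hy⟩ := (HeightOneSpectrum.denseRange_algebraMap (K := k) (v := v)).exists_mem_open
    (isOpen_ball_le v x (-(N : ℤ))) ⟨x, by simp⟩
  simp only [Set.mem_ofPred_eq] at hy
  have hy1 : v.valuation k y ≤ 1 := by
    rw [← valued_algebraMap v y, ← sub_add_cancel (algebraMap k (v.adicCompletion k) y) x]
    exact (Valuation.map_add _ _ _).trans (max_le (hy.trans ((exp_le_exp.mpr (by omega : -(N : ℤ) ≤ 0)).trans_eq exp_zero)) hx)
  obtain ⟨z, hz1, hz2⟩ := SApproxLib.exists_global_approx {v} (fun _ => y) (fun _ => N)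
  have hzv : v.valuation k (z - y) ≤ exp (-(N : ℤ)) := hz2 v (Finset.mem_singleton_self v)
  obtain ⟨r, rfl⟩ := HeightOneSpectrum.mem_integers_of_valuation_le_one k z fun w => by
    by_cases hw : w = v
    · rw [hw, ← sub_add_cancel z y]
      exact (Valuation.map_add _ _ _).trans (max_le (hzv.trans ((exp_le_exp.mpr (by omega : -(N : ℤ) ≤ 0)).trans_eq exp_zero)) hy1)
    · exact hz1 w (by simpa using hw)
  refine Set.mem_biUnion ⟨Ideal.Quotient.mk _ r, rfl⟩ ?_
  refine ⟨x - algebraMap k (v.adicCompletion k) (algebraMap (𝓞 k) k (s (Ideal.Quotient.mk _ r))), hN _ ?_,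
    add_sub_cancel _ x⟩
  have hsr : v.valuation k (algebraMap (𝓞 k) k r - algebraMap (𝓞 k) k (s (Ideal.Quotient.mk _ r))) ≤
      exp (-(N : ℤ)) := by
    rw [← map_sub, HeightOneSpectrum.valuation_of_algebraMap]
    exact (v.intValuation_le_pow_iff_mem _ _).mpr (Ideal.Quotient.eq.mp (hs _).symm)
  generalize algebraMap (𝓞 k) k (s (Ideal.Quotient.mk _ r)) = t at hsr ⊢
  generalize algebraMap (𝓞 k) k r = z at hzv hsr
  rw [sub_zero, show x - algebraMap k (v.adicCompletion k) t = (x - algebraMap k (v.adicCompletion k) y) +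
      (algebraMap k (v.adicCompletion k) (y - z) + algebraMap k (v.adicCompletion k) (z - t)) by
    rw [map_sub, map_sub]; ring]
  refine (Valuation.map_add _ _ _).trans (max_le ?_ ((Valuation.map_add _ _ _).trans (max_le ?_ ?_)))
  · rw [Valuation.map_sub_swap]; exact hy
  · rw [valued_algebraMap, Valuation.map_sub_swap]; exact hzv
  · rw [valued_algebraMap]; exact hsr

theorem isCompact_ball_exp (n : ℤ) : IsCompact {x : v.adicCompletion k | Valued.v x ≤ exp n} := by
  obtain ⟨a, ha⟩ := exists_val_eq v n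
  have ha0 : a ≠ 0 := fun h => exp_ne_zero (a := n) (by rw [← ha, h, map_zero])
  have : {x : v.adicCompletion k | Valued.v x ≤ exp n} = (fun x => a * x) '' {x | Valued.v x ≤ 1} := by
    ext x
    refine ⟨fun hx => ⟨a⁻¹ * x, ?_, mul_inv_cancel_left₀ ha0 x⟩, ?_⟩
    · simp only [Set.mem_ofPred_eq, map_mul, map_inv₀, ha]
      rw [inv_mul_le_one₀ (zero_lt_iff.mpr exp_ne_zero)]
      exact hx
    · rintro ⟨y, hy, rfl⟩
      simp only [Set.mem_ofPred_eq, map_mul, ha]
      exact mul_le_of_le_one_right' hy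
  rw [this]
  exact (isCompact_ball_one v).image (continuous_const_mul a)

variable {K : Type u} [Field K] [NumberField K] [Algebra k K]

theorem exists_coord_le {κ : Type} [Fintype κ] [DecidableEq κ] (bK : Module.Basis κ k K) (M : ℕ) :
    ∃ M' : ℕ, ∀ u : K, (∀ W : HeightOneSpectrum (𝓞 K), W.asIdeal.LiesOver v.asIdeal → W.valuation K u ≤ exp (M : ℤ)) →
      ∀ m, v.valuation k (bK.repr u m) ≤ exp (M' : ℤ) := by
  obtain ⟨N, hN⟩ := exists_coord_bound bK v
    (isOpen_set_pi Set.finite_univ fun _ _ => isOpen_ball_le v 0 0) (u₀ := (0 : K))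
    (by simp [Set.mem_pi, exp_zero])
  obtain ⟨π, hπ⟩ := v.valuation_exists_uniformizer k
  refine ⟨M + N, fun u hu m => ?_⟩
  have hπ0 : π ≠ 0 := fun h => exp_ne_zero (a := (-1 : ℤ)) (by rw [← hπ, h, map_zero])
  have hq : ∀ W : HeightOneSpectrum (𝓞 K), W.asIdeal.LiesOver v.asIdeal →
      W.valuation K (π ^ (M + N) • u - 0) ≤ exp (-(N : ℤ)) := fun W hW => by
    obtain ⟨e, he, h⟩ := valuation_over_eq (K := K) v W π
    rw [sub_zero, Algebra.smul_def, map_mul, map_pow, map_pow, h, hπ, ← exp_nsmul, ← exp_nsmul]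
    refine (mul_le_mul' le_rfl (hu W hW)).trans ?_
    rw [← exp_add, exp_le_exp]
    simp only [nsmul_eq_mul, mul_neg, mul_one]
    push_cast
    have h1 : (1 : ℤ) ≤ e := by omega
    nlinarith [(Int.natCast_nonneg M), (Int.natCast_nonneg N)]
  have h := hN _ hq m (Set.mem_univ m)
  simp only [Set.mem_ofPred_eq, sub_zero, exp_zero, map_smul, Finsupp.smul_apply, smul_eq_mul, valued_algebraMap,
    map_mul, map_pow, hπ, ← exp_nsmul] at h
  rw [nsmul_eq_mul, mul_neg, mul_one, exp_neg, inv_mul_le_one₀ (zero_lt_iff.mpr exp_ne_zero)] at h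
  exact h

variable {L : Type u} [Field L] [NumberField L] [Algebra K L]

theorem exists_repr_le {ι : Type} [Fintype ι] (bL : Module.Basis ι K L) (W : HeightOneSpectrum (𝓞 K)) :
    ∃ M : ℕ, ∀ (b : 𝓞 L) (i : ι), W.valuation K (bL.repr (algebraMap (𝓞 L) L b) i) ≤ exp (M : ℤ) := by
  classical
  obtain ⟨s, hs⟩ := Module.Finite.fg_top (R := 𝓞 K) (M := 𝓞 L)
  have hb : ∀ x : K, ∃ M : ℕ, W.valuation K x ≤ exp (M : ℤ) := fun x => by
    rcases eq_or_ne (W.valuation K x) 0 with h | h
    · exact ⟨0, by rw [h]; exact zero_le⟩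
    · exact ⟨(log (W.valuation K x)).toNat, by rw [← log_le_iff_le_exp h]; omega⟩
  choose f hf using hb
  refine ⟨s.sup fun g => Finset.univ.sup fun i => f (bL.repr (algebraMap (𝓞 L) L g) i), fun b => ?_⟩
  have hb : b ∈ Submodule.span (𝓞 K) (↑s : Set (𝓞 L)) := hs ▸ Submodule.mem_top
  induction hb using Submodule.span_induction with
  | mem g hg =>
    intro i
    exact (hf _).trans (exp_le_exp.mpr (Int.ofNat_le.mpr (le_trans
      (Finset.le_sup (f := fun i => f (bL.repr (algebraMap (𝓞 L) L g) i)) (Finset.mem_univ i))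
      (Finset.le_sup (f := fun g => Finset.univ.sup fun i => f (bL.repr (algebraMap (𝓞 L) L g) i)) hg))))
  | zero => intro i; simp
  | add x y _ _ hx hy =>
    intro i
    rw [map_add, map_add, Finsupp.add_apply]
    exact (Valuation.map_add _ _ _).trans (max_le (hx i) (hy i))
  | smul a x _ hx =>
    intro i
    have e : algebraMap (𝓞 L) L (a • x) = algebraMap (𝓞 K) K a • algebraMap (𝓞 L) L x := by
      rw [Algebra.smul_def, map_mul, Algebra.smul_def]
      rfl
    rw [e, map_smul, Finsupp.smul_apply, smul_eq_mul, map_mul]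
    exact (mul_le_mul' (W.valuation_le_one a) (hx i)).trans (one_mul _).le

attribute [local instance] bcAlg

variable [Algebra k L] [IsScalarTower k K L]

/-- An element which is a unit at all places over `v` is the norm of a unit, if all of them are unramified. -/
theorem exists_unit_norm (v : HeightOneSpectrum (𝓞 k)) {c : K}
    (hc : ∀ W : HeightOneSpectrum (𝓞 K), W.asIdeal.LiesOver v.asIdeal → W.valuation K c = 1)
    (hram : ∀ Q : Ideal (𝓞 L), Q.IsPrime → Q ≠ ⊥ → Q.LiesOver v.asIdeal → Q.ramificationIdx (𝓞 K) = 1) :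
    ∃ x : v.adicCompletion k ⊗[k] L, IsUnit x ∧
      Algebra.norm (v.adicCompletion k ⊗[k] K) x = (1 : v.adicCompletion k) ⊗ₜ[k] c := by
  classical
  haveI : FiniteDimensional k K := Module.Finite.of_restrictScalars_finite ℚ k K
  haveI : FiniteDimensional K L := Module.Finite.of_restrictScalars_finite ℚ K L
  obtain ⟨n, bL, -⟩ := exists_basis_isIntegral K L
  let bK := Module.finBasis k K
  let F := v.adicCompletion k
  let S := (finite_over (K := K) ({v} : Finset (HeightOneSpectrum (𝓞 k)))).toFinset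
  have hS : ∀ W, W ∈ S ↔ W.asIdeal.LiesOver v.asIdeal := fun W => by simp [S]
  choose M hM using exists_repr_le (L := L) bL
  let M₀ := S.sup M
  obtain ⟨M', hM'⟩ := exists_coord_le v bK M₀
  letI : TopologicalSpace (F ⊗[k] K) := moduleTopology F _
  haveI : IsModuleTopology F (F ⊗[k] K) := ⟨rfl⟩
  haveI : Module.Finite F (F ⊗[k] K) := Module.Finite.of_basis (Algebra.TensorProduct.basis F bK)
  haveI : IsTopologicalRing (F ⊗[k] K) := IsModuleTopology.isTopologicalRing F _
  haveI : ContinuousSMul F (F ⊗[k] K) := IsModuleTopology.toContinuousSMul F _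
  let β := Algebra.TensorProduct.basis F bK
  let g : (Fin n × Fin (Module.finrank k K) → F) → (Fin n → F ⊗[k] K) := fun e i => ∑ m, e (i, m) • β m
  have hg : Continuous g := continuous_pi fun i =>
    continuous_finsetSum _ fun m _ => (continuous_apply (i, m)).smul continuous_const
  have hnm : Continuous (bcNm (k := k) bL F) := by
    unfold bcNm
    exact Continuous.matrix_det (continuous_finsetSum _ fun i _ => (continuous_apply i).smul continuous_const)
  have hco : Continuous fun y : F ⊗[k] K => (β.equivFun y : Fin (Module.finrank k K) → F) :=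
    IsModuleTopology.continuous_of_linearMap β.equivFun.toLinearMap
  let Φ : (Fin n × Fin (Module.finrank k K) → F) → Fin (Module.finrank k K) → F :=
    fun e => β.equivFun (bcNm (k := k) bL F (g e))
  have hΦ : Continuous Φ := hco.comp (hnm.comp hg)
  let B := Set.univ.pi fun _ : Fin n × Fin (Module.finrank k K) => {x : F | Valued.v x ≤ exp (M' : ℤ)}
  have hB : IsCompact B := isCompact_univ_pi fun _ => isCompact_ball_exp v _
  let tgt : Fin (Module.finrank k K) → F := fun m => algebraMap k F (bK.repr c m)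
  have hmem : tgt ∈ closure (Φ '' B) := by
    refine mem_closure_iff.mpr fun V hV htgt => ?_
    obtain ⟨N, hN⟩ := exists_coord_bound bK v hV htgt
    have hO : ∀ W : HeightOneSpectrum (𝓞 K), ∃ O : Set (Fin n → W.adicCompletion K), W ∈ S → IsOpen O ∧ O.Nonempty ∧
        ∀ d : Fin n → K, (fun i => algebraMap K (W.adicCompletion K) (d i)) ∈ O →
          W.valuation K (Algebra.norm K (∑ i, d i • bL i) - c) ≤ exp (-(N : ℤ)) ∧
          ∀ i, W.valuation K (d i) ≤ exp (M₀ : ℤ) := by
      intro W
      by_cases hW : W ∈ S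
      · haveI := (hS W).mp hW
        obtain ⟨b, -, hb⟩ := exists_norm_near_integral (L := L) W (fun Q hQ hQ0 hQW => by
          haveI := hQW
          exact hram Q hQ hQ0 (Ideal.LiesOver.trans Q W.asIdeal v.asIdeal)) (hc W this) N
        refine ⟨(fun e => nm bL (W.adicCompletion K) e) ⁻¹'
              {x | Valued.v (x - algebraMap K _ c) ≤ exp (-(N : ℤ))} ∩
            Set.univ.pi fun _ => {x | Valued.v (x - 0) ≤ exp (M₀ : ℤ)}, fun _ => ⟨?_, ?_, ?_⟩⟩
        · exact ((isOpen_ball_le W _ _).preimage (continuous_nm bL _)).inter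
            (isOpen_set_pi Set.finite_univ fun _ _ => isOpen_ball_le W _ _)
        · refine ⟨fun i => algebraMap K _ (bL.repr (algebraMap (𝓞 L) L b) i), ?_, fun i _ => ?_⟩
          · simp only [Set.mem_preimage, Set.mem_ofPred_eq, nm_algebraMap, bL.sum_repr, ← map_sub, valued_algebraMap]
            exact hb
          · simp only [Set.mem_ofPred_eq, sub_zero, valued_algebraMap]
            exact (hM W b i).trans (exp_le_exp.mpr (Int.ofNat_le.mpr (Finset.le_sup (f := M) hW)))
        · rintro d ⟨h1, h2⟩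
          simp only [Set.mem_preimage, Set.mem_ofPred_eq, nm_algebraMap, ← map_sub, valued_algebraMap] at h1
          refine ⟨h1, fun i => ?_⟩
          have := h2 i (Set.mem_univ i)
          simp only [Set.mem_ofPred_eq, sub_zero, valued_algebraMap] at this
          exact this
      · exact ⟨∅, fun h => absurd h hW⟩
    choose O hO using hO
    obtain ⟨W₀, hW₀⟩ := exists_place_notMem S
    obtain ⟨d, -, hd, -⟩ := SApproxLib.exists_strong_approx_pi W₀ S hW₀ O
      (fun W hW => ⟨(hO W hW).1, (hO W hW).2.1⟩) (fun _ => Set.univ) (fun _ => ⟨isOpen_univ, Set.univ_nonempty⟩)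
    have hdW : ∀ W : HeightOneSpectrum (𝓞 K), W.asIdeal.LiesOver v.asIdeal →
        W.valuation K (Algebra.norm K (∑ i, d i • bL i) - c) ≤ exp (-(N : ℤ)) ∧
        ∀ i, W.valuation K (d i) ≤ exp (M₀ : ℤ) := fun W hW =>
      (hO W ((hS W).mpr hW)).2.2 d (hd W ((hS W).mpr hW))
    let e : Fin n × Fin (Module.finrank k K) → F := fun p => algebraMap k F (bK.repr (d p.1) p.2)
    have he : Φ e = fun m => algebraMap k F (bK.repr (Algebra.norm K (∑ i, d i • bL i)) m) := by
      have hge : g e = fun i => (1 : F) ⊗ₜ[k] d i := funext fun i => by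
        simp only [g, e, β, Algebra.TensorProduct.basis_apply, algebraMap_smul]
        simp only [← TensorProduct.tmul_smul, ← TensorProduct.tmul_sum, bK.sum_repr]
      simp only [Φ, hge, bcNm_include]
      funext m
      simp [β, Algebra.TensorProduct.basis_repr_tmul, Algebra.smul_def]
    refine ⟨Φ e, ?_, e, fun p _ => ?_, rfl⟩
    · rw [he]
      exact hN _ fun W hW => (hdW W hW).1
    · show Valued.v (algebraMap k F (bK.repr (d p.1) p.2)) ≤ exp (M' : ℤ)
      rw [valued_algebraMap]
      exact hM' (d p.1) (fun W hW => (hdW W hW).2 p.1) p.2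
  rw [(hB.image hΦ).isClosed.closure_eq] at hmem
  obtain ⟨e, -, he⟩ := hmem
  haveI : Module.Free (F ⊗[k] K) (F ⊗[k] L) := Module.Free.of_basis (bcBasis bK bL F)
  haveI : Module.Finite (F ⊗[k] K) (F ⊗[k] L) := Module.Finite.of_basis (bcBasis bK bL F)
  have hx : Algebra.norm (F ⊗[k] K) (bcCoord (k := k) bL F (g e)) = (1 : F) ⊗ₜ[k] c := by
    rw [← bcNm_eq_norm bK]
    refine β.equivFun.injective (he.trans (funext fun m => ?_))
    simp [tgt, β, Algebra.TensorProduct.basis_repr_tmul, Algebra.smul_def]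
  refine ⟨bcCoord (k := k) bL F (g e), ?_, hx⟩
  have hc0 : c ≠ 0 := fun h => by
    obtain ⟨W, hW⟩ := exists_over (K := K) v
    have := hc W hW
    rw [h, map_zero] at this
    exact zero_ne_one this
  have hu : IsUnit (Algebra.norm (F ⊗[k] K) (bcCoord (k := k) bL F (g e))) := by
    rw [hx]
    exact (IsUnit.mk0 c hc0).map (Algebra.TensorProduct.includeRight : K →ₐ[k] F ⊗[k] K)
  rw [Algebra.norm_apply, ← LinearMap.isUnit_iff_isUnit_det] at hu
  obtain ⟨y, hy⟩ := ((Module.End.isUnit_iff _).mp hu).2 1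
  exact IsUnit.of_mul_eq_one _ hy

end NFFibLib
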